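import Groth.Agent.AlgSpRlimLib.Bounded
import Mathlib.Algebra.Homology.DerivedCategory.HomologySequence

/-!
# Derived limits with cohomology commuting with products
-/

set_option autoImplicit false
set_option linter.unusedSectionVars false
set_option linter.style.haveILetI false
set_option backward.isDefEq.respectTransparency false
set_option backward.isDefEq.respectTransparency.types false
set_option maxHeartbeats 1000000
set_option synthInstance.maxHeartbeats 200000

universe w v' u' v'' u'' u

open CategoryTheory CategoryTheory.Limits AlgebraicGeometry Opposite AlgSp Pretriangulated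

noncomputable section

attribute [local instance] HasDerivedCategory.standard

namespace Groth.Agent.AlgSpRlimLib

open ModEtQc

section Cat

variable {C : Type u'} [Category.{v'} C] {D : Type u''} [Category.{v''} D]

theorem isIso_piMap {T : Type} {M N : T → C} [HasProduct M] [HasProduct N] (φ : ∀ t, M t ⟶ N t)
    (h : ∀ t, IsIso (φ t)) : IsIso (Limits.Pi.map φ) := by
  haveI := h
  exact ⟨Limits.Pi.map fun t => inv (φ t), Limits.Pi.hom_ext _ _ fun t => by
    simp only [Category.assoc, Pi.map_π, Pi.map_π_assoc, IsIso.hom_inv_id, Category.comp_id, Category.id_comp],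
    Limits.Pi.hom_ext _ _ fun t => by
    simp only [Category.assoc, Pi.map_π, Pi.map_π_assoc, IsIso.inv_hom_id, Category.comp_id, Category.id_comp]⟩

/-- A functor preserving the product over a sigma type and the inner products preserves the outer product. -/
theorem isIso_piComparison_sigma (G : C ⥤ D) {ι : Type} (f : ι → Type) (g : (i : ι) → f i → C)
    [∀ i, HasProduct (g i)] [HasProduct fun i => ∏ᶜ g i] [HasProduct fun p : Σ i, f i => g p.1 p.2]
    [∀ i, HasProduct fun x => G.obj (g i x)] [HasProduct fun i => ∏ᶜ fun x => G.obj (g i x)]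
    [HasProduct fun i => G.obj (∏ᶜ g i)]
    [HasProduct fun p : Σ i, f i => G.obj (g p.1 p.2)]
    (hs : IsIso (piComparison G fun p : Σ i, f i => g p.1 p.2)) (hi : ∀ i, IsIso (piComparison G (g i))) :
    IsIso (piComparison G fun i => ∏ᶜ g i) := by
  haveI := hs
  haveI := isIso_piMap (fun i => piComparison G (g i)) hi
  have e : piComparison G (fun i => ∏ᶜ g i) ≫ Limits.Pi.map (fun i => piComparison G (g i)) ≫
      (piPiIso f fun i x => G.obj (g i x)).hom =
      G.map (piPiIso f g).hom ≫ piComparison G fun p : Σ i, f i => g p.1 p.2 := by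
    refine Limits.Pi.hom_ext _ _ fun p => ?_
    obtain ⟨i, x⟩ := p
    simp only [piPiIso, Category.assoc, Pi.lift_π, Pi.map_π_assoc, piComparison_comp_π,
      piComparison_comp_π_assoc, ← Functor.map_comp]
  exact IsIso.of_isIso_fac_right e

/-- Identity minus transition, in a preadditive category. -/
abbrev oneSubG [Preadditive C] {M : ℕ → C} [HasProduct M] (t : ∀ n, M (n + 1) ⟶ M n) : (∏ᶜ M) ⟶ ∏ᶜ M :=
  Pi.lift fun n => Pi.π M n - Pi.π M (n + 1) ≫ t n

theorem map_oneSubG [Preadditive C] [Preadditive D] (G : C ⥤ D) [G.Additive] {M : ℕ → C} [HasProduct M]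
    [HasProduct fun n => G.obj (M n)] (t : ∀ n, M (n + 1) ⟶ M n) :
    G.map (oneSubG t) ≫ piComparison G M = piComparison G M ≫ oneSubG fun n => G.map (t n) := by
  refine Limits.Pi.hom_ext _ _ fun n => ?_
  simp only [oneSubG, Category.assoc, piComparison_comp_π, Pi.lift_π, ← Functor.map_comp, Preadditive.comp_sub,
    piComparison_comp_π_assoc, Functor.map_sub]

end Cat

section Derived

variable {A : Type u'} [Category.{v'} A] [Abelian A] [HasDerivedCategory.{w} A]

/-- When `H^{m-1}` of the second map of a triangle is epi, `H^m` of the first is a kernel of `H^m` of the second. -/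
theorem kernel_of_triangle (T : Triangle (DerivedCategory A)) (hT : T ∈ distTriang _) (m : ℤ)
    (h : Epi ((DerivedCategory.homologyFunctor A (m - 1)).map T.mor₂)) :
    Mono ((DerivedCategory.homologyFunctor A m).map T.mor₁) ∧
      ∀ {W : A} (g : W ⟶ (DerivedCategory.homologyFunctor A m).obj T.obj₂),
        g ≫ (DerivedCategory.homologyFunctor A m).map T.mor₂ = 0 →
        ∃ l, l ≫ (DerivedCategory.homologyFunctor A m).map T.mor₁ = g := by
  have hδ : DerivedCategory.HomologySequence.δ T (m - 1) m (by omega) = 0 := by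
    haveI := h
    rw [← cancel_epi ((DerivedCategory.homologyFunctor A (m - 1)).map T.mor₂),
      DerivedCategory.HomologySequence.comp_δ T hT (m - 1) m (by omega), comp_zero]
  have e₁ := DerivedCategory.HomologySequence.exact₁ T hT (m - 1) m (by omega)
  have hm : Mono ((DerivedCategory.homologyFunctor A m).map T.mor₁) := e₁.mono_g hδ
  refine ⟨hm, fun {W} g hg => ?_⟩
  haveI := hm
  exact ⟨(DerivedCategory.HomologySequence.exact₂ T hT m).lift g hg, ShortComplex.Exact.lift_f _ _ _⟩

theorem kernel_piComparison (K : ℕ → DerivedCategory A) (t : ∀ n, K (n + 1) ⟶ K n) [HasProduct K]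
    [∀ q, HasProduct fun n => (DerivedCategory.homologyFunctor A q).obj (K n)]
    {L : DerivedCategory A} (a : L ⟶ ∏ᶜ K) (c : (∏ᶜ K) ⟶ L⟦(1 : ℤ)⟧)
    (hT : Triangle.mk a (oneSubG t) c ∈ distTriang _) (m : ℤ)
    (h₀ : IsIso (piComparison (DerivedCategory.homologyFunctor A (m - 1)) K))
    (h₁ : IsIso (piComparison (DerivedCategory.homologyFunctor A m) K))
    (he : Epi (oneSubG (M := fun n => (DerivedCategory.homologyFunctor A (m - 1)).obj (K n))
      fun n => (DerivedCategory.homologyFunctor A (m - 1)).map (t n))) :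
    Mono ((DerivedCategory.homologyFunctor A m).map a ≫ piComparison (DerivedCategory.homologyFunctor A m) K) ∧
      ((DerivedCategory.homologyFunctor A m).map a ≫ piComparison (DerivedCategory.homologyFunctor A m) K) ≫
        oneSubG (M := fun n => (DerivedCategory.homologyFunctor A m).obj (K n))
          (fun n => (DerivedCategory.homologyFunctor A m).map (t n)) = 0 ∧
      ∀ {W : A} (g : W ⟶ ∏ᶜ fun n => (DerivedCategory.homologyFunctor A m).obj (K n)),
        g ≫ oneSubG (M := fun n => (DerivedCategory.homologyFunctor A m).obj (K n))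
          (fun n => (DerivedCategory.homologyFunctor A m).map (t n)) = 0 →
        ∃ l, l ≫ (DerivedCategory.homologyFunctor A m).map a ≫
          piComparison (DerivedCategory.homologyFunctor A m) K = g := by
  have he' : Epi ((DerivedCategory.homologyFunctor A (m - 1)).map (oneSubG t)) := by
    rw [show (DerivedCategory.homologyFunctor A (m - 1)).map (oneSubG t) =
        piComparison (DerivedCategory.homologyFunctor A (m - 1)) K ≫ oneSubG _ ≫
          inv (piComparison (DerivedCategory.homologyFunctor A (m - 1)) K) by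
      rw [← Category.assoc, ← map_oneSubG, Category.assoc, IsIso.hom_inv_id, Category.comp_id]]
    infer_instance
  obtain ⟨hmono, hlift⟩ := kernel_of_triangle _ hT m he'
  haveI : Mono ((DerivedCategory.homologyFunctor A m).map a) := hmono
  haveI := h₁
  refine ⟨inferInstance, ?_, fun {W} g hg => ?_⟩
  · rw [Category.assoc, ← map_oneSubG, ← Category.assoc, ← Functor.map_comp,
      show a ≫ oneSubG t = 0 from comp_distTriang_mor_zero₁₂ _ hT, Functor.map_zero, zero_comp]
  · obtain ⟨l, hl⟩ := hlift (g ≫ inv (piComparison (DerivedCategory.homologyFunctor A m) K)) (by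
      refine (cancel_mono (piComparison (DerivedCategory.homologyFunctor A m) K)).1 ?_
      show ((g ≫ inv _) ≫ (DerivedCategory.homologyFunctor A m).map (oneSubG t)) ≫ _ = 0 ≫ _
      rw [Category.assoc, map_oneSubG, Category.assoc, IsIso.inv_hom_id_assoc, hg, zero_comp])
    refine ⟨l, ?_⟩
    rw [← Category.assoc]
    exact (IsIso.eq_comp_inv _).1 hl

end Derived

variable {S : Scheme.{u}} {X : Sp S}

theorem isGrothendieckAbelian_modEt : IsGrothendieckAbelian.{u + 1} (ModEt X) := by
  let R := OEtRing X
  have := ModEtInjLib.hasSeparator_sheaf R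
  have : (PresheafOfModules.toPresheaf R.obj).ReflectsIsomorphisms := inferInstance
  have : ReflectsFiniteLimits (PresheafOfModules.toPresheaf R.obj) :=
    ⟨fun K _ _ => reflectsLimitsOfShape_of_reflectsIsomorphisms⟩
  have : AB5OfSize.{u + 1, u + 1} (PresheafOfModules.{u + 1} R.obj) :=
    ⟨fun K _ _ => HasExactColimitsOfShape.domain_of_functor K (PresheafOfModules.toPresheaf R.obj)⟩
  have : AB5OfSize.{u + 1, u + 1} (ModEt X) :=
    ⟨fun K _ _ => (PresheafOfModules.sheafificationAdjunction.{u + 1} (𝟙 R.obj)).hasExactColimitsOfShape K⟩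
  exact { }

theorem hasProduct_D {T : Type} (K : T → DCoh.DMod (OEtRing X)) : HasProduct K := by
  haveI := isGrothendieckAbelian_modEt (X := X)
  choose I hI e using fun t => DerLib.KInjUse.exists_iso_Q_kInjective (K t)
  exact DerLib.KInjUse.hasProduct_of_kInjective K I hI e

/-- Surjectivity on sections over all affine objects. -/
def ASurj {M N : ModEt X} (φ : M ⟶ N) : Prop :=
  ∀ E : EtOver X, IsAffine E.obj.left.left → Function.Surjective (appS φ E)

theorem epi_of_aSurj {M N : ModEt X} {φ : M ⟶ N} (h : ASurj φ) : Epi φ :=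
  ((ShortComplex.mk φ (0 : N ⟶ N) comp_zero).exact_iff_epi rfl).1 (exact_of_affine _ fun E hE x _ => h E hE x)

theorem epi_of_conj {M M' N N' : ModEt X} {φ : M ⟶ N} {φ' : M' ⟶ N'} {e : M ⟶ M'} {e' : N ⟶ N'}
    (h : φ ≫ e' = e ≫ φ') (he : IsIso e) (he' : IsIso e') (hφ : Epi φ') : Epi φ := by
  haveI := he; haveI := he'; haveI := hφ
  rw [show φ = e ≫ φ' ≫ inv e' by rw [← Category.assoc, ← h, Category.assoc, IsIso.hom_inv_id, Category.comp_id]]
  infer_instance

theorem aSurj_piMap {T : Type} {M N : T → ModEt X} {φ : ∀ t, M t ⟶ N t} (h : ∀ t, ASurj (φ t)) :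
    ASurj (Limits.Pi.map φ) := fun E hE y => by
  choose x hx using fun t => h t E hE (appS (Pi.π N t) E y)
  obtain ⟨z, hz⟩ := piT_sec_exists M E x
  refine ⟨z, piT_sec_ext N E _ _ fun t => ?_⟩
  rw [← hx t, ← hz t, ← appS_comp', Pi.map_π, appS_comp']

variable (K : ℕ → DCoh.DMod (OEtRing X)) (t : ∀ n, K (n + 1) ⟶ K n) [HasProduct K]
  {L : DCoh.DMod (OEtRing X)} (a : L ⟶ ∏ᶜ K) (c : (∏ᶜ K) ⟶ L⟦(1 : ℤ)⟧)

/-- The comparison of the cohomology of a derived limit with the product of the cohomologies. -/
abbrev rho (m : ℤ) : (DerivedCategory.homologyFunctor (ModEt X) m).obj L ⟶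
    ∏ᶜ fun n => (DerivedCategory.homologyFunctor (ModEt X) m).obj (K n) :=
  (DerivedCategory.homologyFunctor (ModEt X) m).map a ≫
    piComparison (DerivedCategory.homologyFunctor (ModEt X) m) K

theorem rho_π (m : ℤ) (n : ℕ) : rho K a m ≫ Pi.π _ n =
    (DerivedCategory.homologyFunctor (ModEt X) m).map (a ≫ Pi.π K n) := by
  rw [Category.assoc, piComparison_comp_π, ← Functor.map_comp]

/-- Identity minus transition on the cohomology sheaves. -/
abbrev oneSubH (m : ℤ) : (∏ᶜ fun n => (DerivedCategory.homologyFunctor (ModEt X) m).obj (K n)) ⟶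
    ∏ᶜ fun n => (DerivedCategory.homologyFunctor (ModEt X) m).obj (K n) :=
  oneSubG (M := fun n => (DerivedCategory.homologyFunctor (ModEt X) m).obj (K n))
    fun n => (DerivedCategory.homologyFunctor (ModEt X) m).map (t n)

/-- The cohomology of a derived limit is the kernel of identity minus transition. -/
theorem rlim_kernel (hT : Triangle.mk a (oneSubG t) c ∈ distTriang _) (m : ℤ)
    (hprod : ∀ q, IsIso (piComparison (DerivedCategory.homologyFunctor (ModEt X) q) K))
    (hsurj : Epi (oneSubH K t (m - 1))) :
    Mono (rho K a m) ∧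
      rho K a m ≫ oneSubH K t m = 0 ∧
      ∀ {W : ModEt X} (g : W ⟶ ∏ᶜ fun n => (DerivedCategory.homologyFunctor (ModEt X) m).obj (K n)),
        g ≫ oneSubH K t m = 0 →
        ∃ l, l ≫ rho K a m = g := by
  exact kernel_piComparison K t a c hT m (hprod (m - 1)) (hprod m) hsurj

end Groth.Agent.AlgSpRlimLib
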