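import Groth.Agent.AlgSpRlimLib.Kernel
import Groth.Agent.DerLib.Ghost

/-!
# Truncations of objects with quasi-coherent cohomology
-/

set_option autoImplicit false
set_option linter.unusedSectionVars false
set_option linter.style.haveILetI false
set_option backward.isDefEq.respectTransparency false
set_option backward.isDefEq.respectTransparency.types false
set_option maxHeartbeats 1000000
set_option synthInstance.maxHeartbeats 200000

universe v' u' u

open CategoryTheory CategoryTheory.Limits AlgebraicGeometry Opposite AlgSp Pretriangulated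
open DerivedCategory.TStructure (t)

noncomputable section

attribute [local instance] HasDerivedCategory.standard

namespace Groth.Agent.AlgSpRlimLib

open ModEtQc

section Seq

variable {A : Type u'} [Category.{v'} A] [Preadditive A] {M : ℕ → A} [HasProduct M]

/-- A map into the kernel of identity minus transition of an eventually constant tower is zero when one late component is. -/
theorem eq_zero_of_component (τ : ∀ n, M (n + 1) ⟶ M n) (N : ℕ) (hτ : ∀ n, N ≤ n → IsIso (τ n)) {W : A}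
    (g : W ⟶ ∏ᶜ M) (hg : g ≫ oneSubG τ = 0) (h0 : g ≫ Pi.π M N = 0) : g = 0 := by
  have e : ∀ n, g ≫ Pi.π M n = (g ≫ Pi.π M (n + 1)) ≫ τ n := fun n => by
    have h := congrArg (· ≫ Pi.π M n) hg
    simp only [oneSubG, Category.assoc, Pi.lift_π, Preadditive.comp_sub, zero_comp, sub_eq_zero] at h
    rw [Category.assoc, h]
  have hle : ∀ k n, n + k = N → g ≫ Pi.π M n = 0 := by
    intro k
    induction k with
    | zero => rintro n rfl; exact h0
    | succ k ih =>
      intro n hn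
      rw [e n, ih (n + 1) (by omega), zero_comp]
  have hge : ∀ k, g ≫ Pi.π M (N + k) = 0 := by
    intro k
    induction k with
    | zero => exact h0
    | succ k ih =>
      haveI := hτ (N + k) (by omega)
      rw [← cancel_mono (τ (N + k)), zero_comp]
      exact (e (N + k)).symm.trans ih
  refine Limits.Pi.hom_ext _ _ fun n => ?_
  rw [zero_comp]
  rcases le_total n N with h | h
  · exact hle (N - n) n (by omega)
  · obtain ⟨k, rfl⟩ := Nat.exists_eq_add_of_le h
    exact hge k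

end Seq

variable {S : Scheme.{u}} {X : Sp S}

theorem isQuasicoherent_of_isZero {M N : ModEt X} (h : IsZero N) (hM : M.IsQuasicoherent) : N.IsQuasicoherent := by
  have hb : BC (kernel (𝟙 M)) :=
    ModEtQc.bc_kernel (𝟙 M) (bc_of_isQuasicoherent M (hM := hM)) (bc_of_isQuasicoherent M (hM := hM))
  exact ObjectProperty.prop_of_iso (SheafOfModules.isQuasicoherent (OEtRing X))
    ((isZero_kernel_of_mono (𝟙 M)).iso h) ((isQuasicoherent_iff_bc _).2 hb)

theorem aSurj_of_epi {M N : ModEt X} (φ : M ⟶ N) [Epi φ] (hM : M.IsQuasicoherent) (hN : N.IsQuasicoherent) :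
    ASurj φ := fun E hE =>
  haveI := hE
  surjective_appS (T := ShortComplex.mk (kernel.ι φ) φ (kernel.condition φ))
    (ShortComplex.ShortExact.mk' (ShortComplex.exact_of_f_is_kernel _ (kernelIsKernel _)) inferInstance ‹_›)
    (ModEtQc.bc_kernel φ (bc_of_isQuasicoherent M (hM := hM)) (bc_of_isQuasicoherent N (hM := hN))) E

theorem aSurj_oneSubG {M : ℕ → ModEt X} (τ : ∀ n, M (n + 1) ⟶ M n) (hM : ∀ n, (M n).IsQuasicoherent)
    (hτ : ∀ n, Epi (τ n)) : ASurj (oneSubG τ) := fun E hE => haveI := hE; surjective_oneSub τ hM hτ E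

variable (E : DModEt X)

/-- The truncations. -/
abbrev tr (n : ℕ) : DModEt X := (t.truncGE (-(n : ℤ))).obj E

/-- The transition maps of the truncations. -/
abbrev trMap (n : ℕ) : tr E (n + 1) ⟶ tr E n :=
  (t.natTransTruncGEOfLE (-((n + 1 : ℕ) : ℤ)) (-(n : ℤ)) (Int.neg_le_neg (Int.ofNat_le.mpr (Nat.le_succ n)))).app E

theorem isIso_H_π (n : ℕ) (m : ℤ) (hm : -(n : ℤ) ≤ m) :
    IsIso ((DerivedCategory.homologyFunctor (ModEt X) m).map ((t.truncGEπ (-(n : ℤ))).app E)) :=
  Groth.Agent.DerLib.Ghost.isIso_homologyMap_truncGEπ E _ m hm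

theorem isZero_H_tr (n : ℕ) (m : ℤ) (hm : m < -(n : ℤ)) :
    IsZero ((DerivedCategory.homologyFunctor (ModEt X) m).obj (tr E n)) :=
  DerivedCategory.isZero_of_isGE (tr E n) (-(n : ℤ)) m hm

theorem π_trMap (n : ℕ) : (t.truncGEπ (-((n + 1 : ℕ) : ℤ))).app E ≫ trMap E n = (t.truncGEπ (-(n : ℤ))).app E :=
  t.π_natTransTruncGEOfLE_app _ _ _ E

theorem isIso_H_trMap (n : ℕ) (m : ℤ) (hm : -(n : ℤ) ≤ m) :
    IsIso ((DerivedCategory.homologyFunctor (ModEt X) m).map (trMap E n)) := by
  haveI := isIso_H_π E n m hm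
  haveI := isIso_H_π E (n + 1) m (by omega)
  refine IsIso.of_isIso_fac_left (f := (DerivedCategory.homologyFunctor (ModEt X) m).map
    ((t.truncGEπ (-((n + 1 : ℕ) : ℤ))).app E)) (h := (DerivedCategory.homologyFunctor (ModEt X) m).map
      ((t.truncGEπ (-(n : ℤ))).app E)) ?_
  rw [← Functor.map_comp, π_trMap]

theorem epi_H_trMap (n : ℕ) (m : ℤ) : Epi ((DerivedCategory.homologyFunctor (ModEt X) m).map (trMap E n)) := by
  by_cases hm : -(n : ℤ) ≤ m
  · haveI := isIso_H_trMap E n m hm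
    infer_instance
  · exact ⟨fun g g' _ => (isZero_H_tr E n m (by omega)).eq_of_src g g'⟩

variable {E}

theorem isQCohDMod_tr (hE : DCoh.IsQCohDMod (OEtRing X) E) (n : ℕ) : DCoh.IsQCohDMod (OEtRing X) (tr E n) := fun m => by
  by_cases hm : -(n : ℤ) ≤ m
  · haveI := isIso_H_π E n m hm
    exact ObjectProperty.prop_of_iso (SheafOfModules.isQuasicoherent (OEtRing X))
      (asIso ((DerivedCategory.homologyFunctor (ModEt X) m).map ((t.truncGEπ (-(n : ℤ))).app E))) (hE m)
  · exact isQuasicoherent_of_isZero (isZero_H_tr E n m (by omega)) (hE m)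

theorem isIso_piComparison_tr {T : Type} (F : T → DModEt X) (k : T → ℕ)
    (hF : ∀ i, DCoh.IsQCohDMod (OEtRing X) (F i)) [HasProduct fun i => tr (F i) (k i)] (m : ℤ) :
    IsIso (piComparison (DerivedCategory.homologyFunctor (ModEt X) m) fun i => tr (F i) (k i)) :=
  isIso_piComparison_of_isGE _ (fun i => -(k i : ℤ))
    (fun i => (inferInstance : t.IsGE (tr (F i) (k i)) (-(k i : ℤ)))) (fun i => isQCohDMod_tr (hF i) (k i)) m

theorem aSurj_oneSubH_tr (hE : DCoh.IsQCohDMod (OEtRing X) E) [HasProduct (tr E)] (m : ℤ) :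
    ASurj (oneSubH (tr E) (trMap E) m) :=
  aSurj_oneSubG _ (fun n => isQCohDMod_tr hE n m) fun n => epi_H_trMap E n m

theorem isIso_of_rho (hE : DCoh.IsQCohDMod (OEtRing X) E) [HasProduct (tr E)] {L : DModEt X}
    (a : L ⟶ ∏ᶜ tr E) (c : (∏ᶜ tr E) ⟶ L⟦(1 : ℤ)⟧) (hT : Triangle.mk a (oneSubG (trMap E)) c ∈ distTriang _)
    (φ : E ⟶ L) (hφ : φ ≫ a = Pi.lift fun n : ℕ => (t.truncGEπ (-(n : ℤ))).app E) (m : ℤ) :
    IsIso ((DerivedCategory.homologyFunctor (ModEt X) m).map φ) := by
  obtain ⟨hmono, hzero, -⟩ := rlim_kernel (tr E) (trMap E) a c hT m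
    (fun q => isIso_piComparison_tr (T := ℕ) (fun _ => E) (fun n => n) (fun _ => hE) q)
    (epi_of_aSurj (aSurj_oneSubH_tr hE (m - 1)))
  haveI := hmono
  let G := DerivedCategory.homologyFunctor (ModEt X) m
  let N : ℕ := (-m).toNat
  have hm1 : Mono (G.map (a ≫ Pi.π (tr E) N)) := by
    refine Preadditive.mono_of_cancel_zero _ fun {W} g hg => ?_
    refine (cancel_mono (rho (tr E) a m)).1 (Eq.trans ?_ zero_comp.symm)
    refine eq_zero_of_component (fun n => G.map (trMap E n)) N (fun n hn => isIso_H_trMap E n m (by omega)) _ ?_ ?_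
    · rw [Category.assoc, hzero, comp_zero]
    · rw [Category.assoc, rho_π, hg]
  haveI := hm1
  haveI := isIso_H_π E N m (by omega)
  have e : G.map φ ≫ G.map (a ≫ Pi.π (tr E) N) = G.map ((t.truncGEπ (-(N : ℤ))).app E) := by
    rw [← Functor.map_comp, ← Category.assoc, hφ, Pi.lift_π]
  haveI : Epi (G.map (a ≫ Pi.π (tr E) N)) := epi_of_epi_fac e
  haveI : IsIso (G.map (a ≫ Pi.π (tr E) N)) := isIso_of_mono_of_epi _
  exact IsIso.of_isIso_fac_right e

/-- An object with quasi-coherent cohomology is the derived limit of its truncations. -/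
theorem isRlim_trunc (hE : DCoh.IsQCohDMod (OEtRing X) E) [HasProduct (tr E)] :
    ∃ c : (∏ᶜ tr E) ⟶ E⟦(1 : ℤ)⟧,
      Triangle.mk (Pi.lift fun n : ℕ => (t.truncGEπ (-(n : ℤ))).app E) (oneSubG (trMap E)) c ∈ distTriang _ := by
  obtain ⟨L, a, c, hT⟩ := distinguished_cocone_triangle₁ (oneSubG (trMap E))
  have h0 : (Pi.lift fun n : ℕ => (t.truncGEπ (-(n : ℤ))).app E) ≫ oneSubG (trMap E) = 0 := by
    refine Limits.Pi.hom_ext _ _ fun n => ?_
    simp only [oneSubG, Category.assoc, Pi.lift_π, Preadditive.comp_sub, zero_comp]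
    rw [Pi.lift_π_assoc, π_trMap, sub_self]
  obtain ⟨φ, hφ⟩ : ∃ φ : E ⟶ L, (Pi.lift fun n : ℕ => (t.truncGEπ (-(n : ℤ))).app E) = φ ≫ a :=
    Triangle.coyoneda_exact₂ _ hT _ h0
  haveI : IsIso φ := (DerivedCategory.isIso_iff (ModEt X) φ).2 fun m => isIso_of_rho hE a c hT φ hφ.symm m
  refine ⟨c ≫ (inv φ)⟦(1 : ℤ)⟧', isomorphic_distinguished _ hT _ ?_⟩
  refine Triangle.isoMk _ _ (asIso φ) (Iso.refl _) (Iso.refl _)
    ((Category.comp_id _).trans hφ) ((Category.comp_id _).trans (Category.id_comp _).symm) ?_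
  show (c ≫ (inv φ)⟦(1 : ℤ)⟧') ≫ φ⟦(1 : ℤ)⟧' = 𝟙 _ ≫ c
  rw [Category.assoc, ← Functor.map_comp, IsIso.inv_hom_id, CategoryTheory.Functor.map_id, Category.comp_id,
    Category.id_comp]

end Groth.Agent.AlgSpRlimLib
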