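import Groth.Agent.AlgSpRlimLib.Bounds

/-!
# Sections over affine objects of K-injective complexes with quasi-coherent cohomology
-/

set_option autoImplicit false
set_option linter.unusedSectionVars false
set_option linter.style.haveILetI false
set_option backward.isDefEq.respectTransparency false
set_option backward.isDefEq.respectTransparency.types false
set_option maxHeartbeats 1000000
set_option synthInstance.maxHeartbeats 200000

universe u

open CategoryTheory CategoryTheory.Limits AlgebraicGeometry Opposite AlgSp Pretriangulated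
open DerivedCategory.TStructure (t)

noncomputable section

attribute [local instance] HasDerivedCategory.standard

namespace Groth.Agent.AlgSpRlimLib

open ModEtQc

variable {S : Scheme.{u}} {X : Sp S}

/-- Sections over an object, as a functor to abelian groups. -/
abbrev secAb (E : EtOver X) : ModEt X ⥤ AddCommGrpCat.{u + 1} :=
  toPre X ⋙ (CategoryTheory.evaluation _ _).obj (op E)

instance additive_secAb (E : EtOver X) : (secAb E).Additive where
  map_add := by intros; rfl

theorem preservesLimitsOfShape_secAb (E : EtOver X) : PreservesLimitsOfShape (Discrete ℕ) (secAb E) := by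
  haveI : PreservesLimitsOfShape (Discrete ℕ) (secAb E ⋙ forget AddCommGrpCat.{u + 1}) :=
    inferInstanceAs (PreservesLimitsOfShape (Discrete ℕ) (secT E))
  exact preservesLimitsOfShape_of_reflects_of_preserves (secAb E) (forget AddCommGrpCat.{u + 1})

theorem isZero_rightDerived_secAb [EnoughInjectives (ModEt X)] (E : EtOver X) (hE : IsAffine E.obj.left.left) (G : ModEt X)
    (hG : G.IsQuasicoherent) (p : ℕ) (hp : 1 ≤ p) : IsZero (((secAb E).rightDerived p).obj G) := by
  obtain ⟨k, rfl⟩ : ∃ k, p = k + 1 := ⟨p - 1, by omega⟩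
  let I := injectiveResolution G
  refine IsZero.of_iso ?_ (I.isoRightDerivedObj (secAb E) (k + 1))
  refine (HomologicalComplex.exactAt_iff_isZero_homology _ _).1 ?_
  rw [HomologicalComplex.exactAt_iff' _ k (k + 1) (k + 2) (by simp) (by simp), ShortComplex.ab_exact_iff]
  exact fun x hx => haveI := hG; sec_exact_resolution (mAcyclic_of_qcoh G) I k E hE x hx

section Naturality

variable (E : EtOver X) {I J : CochainComplex (ModEt X) ℤ}

theorem mapped_iCycles_d (K : CochainComplex (ModEt X) ℤ) (m j : ℤ) (z : sec (K.cycles m) E) :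
    (((secAb E).mapHomologicalComplex (ComplexShape.up ℤ)).obj K).d m j (appS (K.iCycles m) E z) = 0 :=
  appS_iCycles_d K m j E z

/-- The class of a cycle on sections. -/
theorem exists_mapped_cycle (K : CochainComplex (ModEt X) ℤ) (m : ℤ) (z : sec (K.cycles m) E) :
    ∃ w, (((secAb E).mapHomologicalComplex (ComplexShape.up ℤ)).obj K).iCycles m w = appS (K.iCycles m) E z :=
  ab_exists_cycle _ m _ (mapped_iCycles_d E K m (m + 1) z)

theorem mapped_class_eq_zero_iff (K : CochainComplex (ModEt X) ℤ) (m : ℤ) (z : sec (K.cycles m) E)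
    (w : (((secAb E).mapHomologicalComplex (ComplexShape.up ℤ)).obj K).cycles m)
    (hw : (((secAb E).mapHomologicalComplex (ComplexShape.up ℤ)).obj K).iCycles m w = appS (K.iCycles m) E z) :
    (((secAb E).mapHomologicalComplex (ComplexShape.up ℤ)).obj K).homologyπ m w = 0 ↔
      ∃ y, appS (K.toCycles (m - 1) m) E y = z := by
  let K' := ((secAb E).mapHomologicalComplex (ComplexShape.up ℤ)).obj K
  constructor
  · intro h
    obtain ⟨y, hy⟩ := ab_exists_boundary K' m w h
    refine ⟨y, injective_appS (K.iCycles m) E ?_⟩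
    rw [appS_iCycles_toCycles, ← hw, ← hy, ← ConcreteCategory.comp_apply, HomologicalComplex.toCycles_i]
    rfl
  · rintro ⟨y, rfl⟩
    rw [appS_iCycles_toCycles] at hw
    have e : K'.toCycles (m - 1) m y = w := by
      refine ab_iCycles_injective K' m ?_
      rw [← ConcreteCategory.comp_apply, HomologicalComplex.toCycles_i]
      exact hw.symm
    refine (congrArg (K'.homologyπ m) e).symm.trans ?_
    rw [← ConcreteCategory.comp_apply, HomologicalComplex.toCycles_comp_homologyπ]
    rfl

end Naturality

/-- Sections over affine objects of a K-injective complex with quasi-coherent cohomology compute the cohomology sheaves. -/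
theorem affExact_of_kInjective [EnoughInjectives (ModEt X)] (I : CochainComplex (ModEt X) ℤ) [I.IsKInjective]
    (hq : ∀ q, (I.homology q).IsQuasicoherent) (E : EtOver X) (hE : IsAffine E.obj.left.left) (m : ℤ) :
    AffExact I E m := by
  let P : DModEt X := DerivedCategory.Q.obj I
  have hP : DCoh.IsQCohDMod (OEtRing X) P := fun q =>
    ObjectProperty.prop_of_iso (SheafOfModules.isQuasicoherent (OEtRing X))
      ((DerivedCategory.homologyFunctorFactors (ModEt X) q).app I).symm (hq q)
  obtain ⟨J, hinj, hge, ⟨e⟩⟩ := exists_injective_of_isGE ((t.truncGE m).obj P) m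
  haveI := hinj; haveI := hge
  haveI : J.IsKInjective := CochainComplex.isKInjective_of_injective J m
  obtain ⟨g, hg⟩ := DerLib.KInjUse.Q_map_surjective I J ((t.truncGEπ m).app P ≫ e.hom)
  haveI := Groth.Agent.DerLib.Ghost.isIso_homologyMap_truncGEπ P m m le_rfl
  haveI : IsIso ((DerivedCategory.homologyFunctor (ModEt X) m).map (DerivedCategory.Q.map g)) := by
    rw [hg, Functor.map_comp]; infer_instance
  haveI hgm : IsIso (HomologicalComplex.homologyMap g m) :=
    (NatIso.isIso_map_iff (DerivedCategory.homologyFunctorFactors (ModEt X) m) g).1 ‹_›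
  let F := secAb E
  haveI := preservesLimitsOfShape_secAb E
  haveI := Groth.Agent.DerLib.KInjDerived.hasRightDerivedFunctor
    (F.mapHomotopyCategory (ComplexShape.up ℤ) ⋙ DerivedCategory.Qh) (enoughKInj_modEt (X := X))
  let RF := (F.mapHomotopyCategory (ComplexShape.up ℤ) ⋙ DerivedCategory.Qh).totalRightDerived DerivedCategory.Qh
    (HomotopyCategory.quasiIso (ModEt X) (ComplexShape.up ℤ))
  let α := (F.mapHomotopyCategory (ComplexShape.up ℤ) ⋙ DerivedCategory.Qh).totalRightDerivedUnit DerivedCategory.Qh
    (HomotopyCategory.quasiIso (ModEt X) (ComplexShape.up ℤ))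
  haveI := isIso_GH_π F RF α 1 (isZero_rightDerived_secAb E hE) P hP m m (by omega)
  haveI : IsIso ((GH RF m).map (DerivedCategory.Q.map g)) := by
    rw [hg, Functor.map_comp]; infer_instance
  haveI := isIso_toGH F RF α enoughKInj_modEt m I
  haveI := isIso_toGH F RF α enoughKInj_modEt m J
  let gF := (F.mapHomologicalComplex (ComplexShape.up ℤ)).map g
  haveI : IsIso ((DerivedCategory.Q ⋙ GH RF m).map g) := ‹IsIso ((GH RF m).map (DerivedCategory.Q.map g))›
  haveI : IsIso ((toGH F RF α m).app I ≫ (DerivedCategory.Q ⋙ GH RF m).map g) := inferInstance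
  haveI : IsIso (HomologicalComplex.homologyMap gF m) :=
    IsIso.of_isIso_fac_right ((toGH F RF α m).naturality g)
  have hb := (ConcreteCategory.isIso_iff_bijective (HomologicalComplex.homologyMap gF m)).1 inferInstance
  have hq' : ∀ q, (J.homology q).IsQuasicoherent := fun q =>
    ObjectProperty.prop_of_iso (SheafOfModules.isQuasicoherent (OEtRing X))
      ((DerivedCategory.homologyFunctor (ModEt X) q).mapIso e ≪≫ (DerivedCategory.homologyFunctorFactors (ModEt X) q).app J)
      (isQCohDMod_truncGE hP m q)
  haveI := hE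
  have hJ := affExact m hq' E m
  have hnat : ∀ z, appS (HomologicalComplex.homologyMap g m) E (appS (I.homologyπ m) E z) =
      appS (J.homologyπ m) E (appS (HomologicalComplex.cyclesMap g m) E z) := fun z => by
    rw [← appS_comp', ← appS_comp', HomologicalComplex.homologyπ_naturality]
  have hcyc : ∀ z, appS (J.iCycles m) E (appS (HomologicalComplex.cyclesMap g m) E z) =
      appS (g.f m) E (appS (I.iCycles m) E z) := fun z => by
    rw [← appS_comp', ← appS_comp', HomologicalComplex.cyclesMap_i]
  have hcycF : ∀ w, (((F.mapHomologicalComplex (ComplexShape.up ℤ)).obj J).iCycles m)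
      (HomologicalComplex.cyclesMap gF m w) =
        appS (g.f m) E ((((F.mapHomologicalComplex (ComplexShape.up ℤ)).obj I).iCycles m) w) := fun w => by
    rw [← ConcreteCategory.comp_apply, HomologicalComplex.cyclesMap_i, ConcreteCategory.comp_apply]
    rfl
  refine ⟨fun s => ?_, fun z hz => ?_⟩
  · obtain ⟨zJ, hzJ⟩ := hJ.surj (appS (HomologicalComplex.homologyMap g m) E s)
    obtain ⟨wJ, hwJ⟩ := exists_mapped_cycle E J m zJ
    obtain ⟨cI, hcI⟩ := hb.2 (((F.mapHomologicalComplex (ComplexShape.up ℤ)).obj J).homologyπ m wJ)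
    obtain ⟨wI, rfl⟩ := ab_homologyπ_surjective _ m cI
    obtain ⟨zI, hzI⟩ := exists_cycle I m E ((((F.mapHomologicalComplex (ComplexShape.up ℤ)).obj I).iCycles m) wI) (by
      show ((F.mapHomologicalComplex (ComplexShape.up ℤ)).obj I).d m (m + 1)
        (((F.mapHomologicalComplex (ComplexShape.up ℤ)).obj I).iCycles m wI) = 0
      rw [← ConcreteCategory.comp_apply, HomologicalComplex.iCycles_d]
      rfl)
    obtain ⟨y, hy⟩ := (mapped_class_eq_zero_iff E J m (appS (HomologicalComplex.cyclesMap g m) E zI - zJ)
      (HomologicalComplex.cyclesMap gF m wI - wJ) (by rw [map_sub, map_sub, hcycF, hcyc, hzI, hwJ])).1 (by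
        rw [map_sub, sub_eq_zero, ← hcI, ← ConcreteCategory.comp_apply, ← ConcreteCategory.comp_apply,
          HomologicalComplex.homologyπ_naturality])
    refine ⟨zI, ?_⟩
    have hgi : Function.Injective (appS (HomologicalComplex.homologyMap g m) E) := injective_appS _ E
    refine hgi ?_
    rw [hnat, ← hzJ, ← sub_eq_zero, ← map_sub, ← hy]
    exact appS_homologyπ_toCycles J (m - 1) m E y
  · obtain ⟨y, hy⟩ := hJ.exact (appS (HomologicalComplex.cyclesMap g m) E z) (by rw [← hnat, hz, map_zero])
    obtain ⟨w, hw⟩ := exists_mapped_cycle E I m z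
    refine (mapped_class_eq_zero_iff E I m z w hw).1 (hb.1 ?_)
    rw [map_zero, ← ConcreteCategory.comp_apply, HomologicalComplex.homologyπ_naturality, ConcreteCategory.comp_apply]
    exact (mapped_class_eq_zero_iff E J m _ _ (by rw [hcycF, hw, hcyc])).2 ⟨y, hy⟩

end Groth.Agent.AlgSpRlimLib
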