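import Groth.Agent.AlgSpRlimLib.NerveInj
import Groth.Agent.ModEtQcLib.AffineAcyclic
import Groth.Agent.ModEtQcLib.Exact
import Groth.Agent.ModEtQcLib.Qc
import Mathlib.CategoryTheory.Abelian.Injective.Resolution

/-!
# Sections of injective resolutions of modules acyclic on affine objects
-/

set_option autoImplicit false
set_option linter.unusedSectionVars false
set_option linter.style.haveILetI false
set_option backward.isDefEq.respectTransparency false
set_option backward.isDefEq.respectTransparency.types false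
set_option maxHeartbeats 1000000
set_option synthInstance.maxHeartbeats 200000

universe u

open CategoryTheory CategoryTheory.Limits AlgebraicGeometry Opposite AlgSp
open Groth.Agent Groth.Agent.EtShLib

noncomputable section

namespace Groth.Agent.AlgSpRlimLib

open ModEtQc

variable {S : Scheme.{u}} {X : Sp S}

theorem injective_val (I : ModEt X) [Injective I] : Injective I.val :=
  (Injective.injective_of_adjoint (PresheafOfModules.sheafificationAdjunction.{u + 1} (𝟙 (OEtRing X).obj)) I :)

theorem hExact_comp_injective {C : Type (u + 1)} [Category.{u} C] [HasPullbacks C] (G : C ⥤ EtOver X)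
    [PreservesLimitsOfShape WalkingCospan G] (I : ModEt X) [Injective I]
    {W' W : C} (π : W' ⟶ W) (n : ℕ) : EpsLib.HExact (EpsLib.nerveOf π) (G.op ⋙ I.val.presheaf) n := by
  intro x hx
  haveI := injective_val I
  have key : ∀ m (t : I.val.presheaf.obj (op (G.obj (EpsLib.pow π m).left))),
      EpsLib.cechD (mapNerve G π) I.val.presheaf m t =
        EpsLib.cechD (EpsLib.nerveOf π) (G.op ⋙ I.val.presheaf) m t := fun m t => by
    simp only [EpsLib.cechD_apply, mapNerve_face]
    rfl
  obtain ⟨y, hy⟩ := hExact_of_injective_mod (mapNerve G π) I.val n x ((key _ x).trans hx)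
  exact ⟨y, (key _ y).symm.trans hy⟩

theorem shortExact_toAbEt {T : ShortComplex (ModEt X)} (hT : T.ShortExact) : (T.map (toAbEt X)).ShortExact := by
  haveI := hT.epi_g
  haveI : PreservesFiniteLimits (toAbEt X) := inferInstance
  refine Groth.Agent.RDerLib.map_shortExact hT ?_
  suffices h' : Sheaf.IsLocallySurjective ((toAbEt X).map T.g) from Sheaf.epi_of_isLocallySurjective _
  refine ⟨fun {V} s => ?_⟩
  obtain ⟨R, hR, hRg⟩ := locally_surjective_of_epi T.g V s
  exact GrothendieckTopology.superset_covering _ (fun Y g hg => hRg g hg) hR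

/-- Acyclicity of a module on affine objects. -/
def MAcyclic (M : ModEt X) : Prop := AffAcyclic ((toAbEt X).obj M)

theorem mAcyclic_of_qcoh (M : ModEt X) [M.IsQuasicoherent] : MAcyclic M :=
  affAcyclic_of_bc M (bc_of_isQuasicoherent M)

theorem mAcyclic_of_iso {M N : ModEt X} (e : M ≅ N) (h : MAcyclic M) : MAcyclic N := by
  intro U p hp W' W π hW' hW hπ n x hx
  let φ := ((resP' p hp).map ((toAbEt X).map e.hom)).hom
  let ψ := ((resP' p hp).map ((toAbEt X).map e.inv)).hom
  have hψφ : ψ ≫ φ = 𝟙 _ := by
    show ((resP' p hp).map _ ≫ (resP' p hp).map _).hom = _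
    rw [← Functor.map_comp, ← Functor.map_comp, e.inv_hom_id, CategoryTheory.Functor.map_id,
      CategoryTheory.Functor.map_id]
    rfl
  obtain ⟨y, hy⟩ := h U p hp W' W π hW' hW hπ n (ψ.app _ x) (by rw [← EpsLib.cechD_natural, hx, map_zero])
  refine ⟨φ.app _ y, ?_⟩
  rw [← EpsLib.cechD_natural, hy, ← ConcreteCategory.comp_apply, ← NatTrans.comp_app, hψφ]
  rfl

theorem mAcyclic_quotient {T : ShortComplex (ModEt X)} (hT : T.ShortExact) [Injective T.X₂]
    (h : MAcyclic T.X₁) : MAcyclic T.X₃ := fun U p hp W' W π hW' hW hπ n => by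
  haveI : (resP' p hp).Additive := { }
  have hS := shortExact_resP' p hp (shortExact_toAbEt hT)
  exact EpsLib.hExact_quotient hS (EpsLib.nerveOf π)
    (surjective_sectionsA hS (h U p hp) (haveI := hW'; haveI := hW; pow_isAffine π (n + 1)))
    (h U p hp W' W π hW' hW hπ (n + 1)) (hExact_comp_injective (EtOver.ofChart p hp) T.X₂ π n)

theorem surjective_appS_of_mAcyclic {T : ShortComplex (ModEt X)} (hT : T.ShortExact) (h : MAcyclic T.X₁)
    (E : EtOver X) [hE : IsAffine E.obj.left.left] : Function.Surjective (appS T.g E) :=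
  surjective_sections_affine (shortExact_toAbEt hT) h hE

/-- Exactness can be checked on the sections over affine objects. -/
theorem exact_of_affine (T : ShortComplex (ModEt X))
    (h : ∀ E : EtOver X, IsAffine E.obj.left.left → ∀ x : sec T.X₂ E, appS T.g E x = 0 → ∃ y, appS T.f E y = x) :
    T.Exact := by
  rw [T.exact_iff_epi_kernel_lift]
  suffices h' : Sheaf.IsLocallySurjective ((toAbEt X).map (kernel.lift T.g T.f T.zero)) by
    haveI := Sheaf.epi_of_isLocallySurjective ((toAbEt X).map (kernel.lift T.g T.f T.zero))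
    exact Functor.epi_of_epi_map (F := toAbEt X) this
  refine ⟨fun {V} (s : sec (kernel T.g) V) => ?_⟩
  obtain ⟨ι, Z, g, hZ, hcov⟩ := exists_affine_cover V
  refine GrothendieckTopology.superset_covering _ ?_ (ofArrows_mem_etTop Z g hcov)
  rintro _ _ ⟨_, q, _, ⟨i⟩, rfl⟩
  refine Sieve.downward_closed _ ?_ q
  let s' := res (kernel T.g) (g i) s
  have h0 : appS T.g (Z i) (appS (kernel.ι T.g) (Z i) s') = 0 :=
    ConcreteCategory.congr_hom (congrArg (fun φ => φ.val.app (op (Z i))) (kernel.condition T.g)) s'
  obtain ⟨y, hy⟩ := h (Z i) (hZ i) _ h0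
  refine ⟨y, injective_appS (kernel.ι T.g) (Z i) ?_⟩
  refine Eq.trans ?_ hy
  exact ConcreteCategory.congr_hom (congrArg (fun φ => φ.val.app (op (Z i))) (kernel.lift_ι T.g T.f T.zero)) y

/-- The kernel of a differential, as the start of a short exact sequence. -/
abbrev cycSC (K : CochainComplex (ModEt X) ℕ) (k : ℕ) : ShortComplex (ModEt X) :=
  ShortComplex.mk (kernel.ι (K.d k (k + 1))) (kernel.lift (K.d (k + 1) (k + 2)) (K.d k (k + 1)) (K.d_comp_d _ _ _))
    (by rw [← cancel_mono (kernel.ι _), Category.assoc, kernel.lift_ι, kernel.condition, zero_comp])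

theorem shortExact_cycSC {M : ModEt X} (I : InjectiveResolution M) (k : ℕ) : (cycSC I.cocomplex k).ShortExact := by
  haveI : Epi (cycSC I.cocomplex k).g :=
    (((HomologicalComplex.exactAt_iff' I.cocomplex k (k + 1) (k + 2) (by simp) (by simp)).1
      (I.cocomplex_exactAt_succ k))).epi_kernelLift
  refine ShortComplex.ShortExact.mk' ?_ inferInstance ‹_›
  refine ShortComplex.exact_of_f_is_kernel _ (isKernelOfComp _ (I.cocomplex.d k (k + 1))
    (kernelIsKernel _) _ (kernel.lift_ι _ _ _))

theorem mAcyclic_cycles {M : ModEt X} (h : MAcyclic M) (I : InjectiveResolution M) :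
    ∀ k, MAcyclic (kernel (I.cocomplex.d k (k + 1)))
  | 0 => mAcyclic_of_iso
      (IsLimit.conePointUniqueUpToIso I.isLimitKernelFork (limit.isLimit _)) h
  | k + 1 => haveI : Injective (cycSC I.cocomplex k).X₂ := I.injective k
    mAcyclic_quotient (shortExact_cycSC I k) (mAcyclic_cycles h I k)

/-- Sections over affine objects of an injective resolution of an acyclic module are exact in positive degrees. -/
theorem sec_exact_resolution {M : ModEt X} (h : MAcyclic M) (I : InjectiveResolution M) (k : ℕ)
    (E : EtOver X) (hE : IsAffine E.obj.left.left) (x : sec (I.cocomplex.X (k + 1)) E)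
    (hx : appS (I.cocomplex.d (k + 1) (k + 2)) E x = 0) : ∃ y, appS (I.cocomplex.d k (k + 1)) E y = x := by
  obtain ⟨z, hz⟩ := (exact_appS (T := ShortComplex.mk (kernel.ι (I.cocomplex.d (k + 1) (k + 2)))
      (I.cocomplex.d (k + 1) (k + 2)) (kernel.condition _))
    (ShortComplex.exact_of_f_is_kernel _ (kernelIsKernel _)) E x).1 hx
  obtain ⟨y, hy⟩ := surjective_appS_of_mAcyclic (shortExact_cycSC I k) (mAcyclic_cycles h I k) E z
  refine ⟨y, ?_⟩
  refine Eq.trans ?_ ((congrArg (appS (kernel.ι _) E) hy).trans hz)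
  exact (ConcreteCategory.congr_hom (congrArg (fun φ => φ.val.app (op E))
    (kernel.lift_ι (I.cocomplex.d (k + 1) (k + 2)) (I.cocomplex.d k (k + 1)) (I.cocomplex.d_comp_d _ _ _))) y).symm

end Groth.Agent.AlgSpRlimLib
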