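import Groth.Agent.AlgSpRlimLib.Main
import Groth.Agent.DerLib.Horseshoe

/-!
# Cohomology of products of bounded below objects with quasi-coherent cohomology
-/

set_option autoImplicit false
set_option linter.unusedSectionVars false
set_option linter.style.haveILetI false
set_option backward.isDefEq.respectTransparency false
set_option backward.isDefEq.respectTransparency.types false
set_option maxHeartbeats 1000000
set_option synthInstance.maxHeartbeats 200000

universe u

open CategoryTheory CategoryTheory.Limits AlgebraicGeometry Opposite AlgSp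
open Groth.Agent Groth.Agent.EtShLib

noncomputable section

attribute [local instance] HasDerivedCategory.standard

namespace Groth.Agent.AlgSpRlimLib

open ModEtQc

variable {S : Scheme.{u}} {X : Sp S}

theorem sec_eq_zero_of_isZero {M : ModEt X} (h : IsZero M) (E : EtOver X) (x : sec M E) : x = 0 :=
  (congrArg (fun φ => appS φ E x) (h.eq_of_src (𝟙 M) 0)).trans rfl

theorem mAcyclic_of_isZero {M : ModEt X} (h : IsZero M) : MAcyclic M := fun U p hp W' W π _ _ _ n x _ =>
  ⟨0, (map_zero _).trans (sec_eq_zero_of_isZero h _ (x : sec M _)).symm⟩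

theorem hExact_middle {C : Type (u + 1)} [Category.{u} C] {K : GrothendieckTopology C}
    [HasSheafify K AddCommGrpCat.{u + 1}] {T : ShortComplex (Sheaf K AddCommGrpCat.{u + 1})} (hS : T.ShortExact)
    {W' W : C} {π : W' ⟶ W} (N : EpsLib.Nerve π) {n : ℕ}
    (hsurj : Function.Surjective (T.g.hom.app (op (N.obj n))))
    (h1 : EpsLib.HExact N T.X₁.obj n) (h3 : EpsLib.HExact N T.X₃.obj n) : EpsLib.HExact N T.X₂.obj n := by
  intro x hx
  obtain ⟨z, hz⟩ := h3 (T.g.hom.app _ x) (by rw [← EpsLib.cechD_natural, hx, map_zero])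
  obtain ⟨z', rfl⟩ := hsurj z
  obtain ⟨w, hw⟩ := (EpsLib.sections_exact hS _).2 (x - EpsLib.cechD N T.X₂.obj n z') (by
    rw [map_sub, EpsLib.cechD_natural, hz, sub_self])
  obtain ⟨v, hv⟩ := h1 w ((EpsLib.sections_exact hS _).1 (by
    rw [EpsLib.cechD_natural, map_zero, hw, map_sub, hx, EpsLib.cechD_cechD, sub_zero]))
  refine ⟨z' + T.f.hom.app _ v, ?_⟩
  rw [map_add, ← EpsLib.cechD_natural, hv, hw, add_sub_cancel]

theorem mAcyclic_extension {T : ShortComplex (ModEt X)} (hT : T.ShortExact) (h1 : MAcyclic T.X₁)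
    (h3 : MAcyclic T.X₃) : MAcyclic T.X₂ := fun U p hp W' W π hW' hW hπ n => by
  haveI : (resP' p hp).Additive := { }
  have hS := shortExact_resP' p hp (shortExact_toAbEt hT)
  exact hExact_middle hS (EpsLib.nerveOf π)
    (surjective_sectionsA hS (h1 U p hp) (haveI := hW'; haveI := hW; pow_isAffine π n))
    (h1 U p hp W' W π hW' hW hπ n) (h3 U p hp W' W π hW' hW hπ n)

/-- An isomorphism is detected on the sections over affine objects. -/
theorem isIso_of_affine {M N : ModEt X} (φ : M ⟶ N)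
    (hi : ∀ E : EtOver X, IsAffine E.obj.left.left → ∀ x : sec M E, appS φ E x = 0 → x = 0)
    (hs : ∀ E : EtOver X, IsAffine E.obj.left.left → Function.Surjective (appS φ E)) : IsIso φ := by
  haveI : Mono φ := ((ShortComplex.mk (0 : M ⟶ M) φ zero_comp).exact_iff_mono rfl).1
    (exact_of_affine _ fun E hE x hx => ⟨0, (map_zero _).trans (hi E hE x hx).symm⟩)
  haveI : Epi φ := ((ShortComplex.mk φ (0 : N ⟶ N) comp_zero).exact_iff_epi rfl).1
    (exact_of_affine _ fun E hE x _ => hs E hE x)
  exact isIso_of_mono_of_epi φ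

section Complex

variable (J : CochainComplex (ModEt X) ℤ)

/-- Boundaries in degree `m`. -/
abbrev bd (m : ℤ) : ModEt X := kernel (J.homologyπ m)

/-- `0 → B^m → Z^m → H^m → 0`. -/
abbrev bzh (m : ℤ) : ShortComplex (ModEt X) :=
  ShortComplex.mk (kernel.ι (J.homologyπ m)) (J.homologyπ m) (kernel.condition _)

theorem bzh_shortExact (m : ℤ) : (bzh J m).ShortExact :=
  ShortComplex.ShortExact.mk' (ShortComplex.exact_of_f_is_kernel _ (kernelIsKernel _))
    inferInstance inferInstance

/-- The boundary map. -/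
abbrev toBd (m : ℤ) : J.X (m - 1) ⟶ bd J m :=
  kernel.lift _ (J.toCycles (m - 1) m) (J.toCycles_comp_homologyπ _ _)

theorem iCycles_toBd (m : ℤ) : J.iCycles (m - 1) ≫ toBd J m = 0 := by
  rw [← cancel_mono (kernel.ι (J.homologyπ m)), Category.assoc, kernel.lift_ι, zero_comp,
    ← cancel_mono (J.iCycles m), Category.assoc, HomologicalComplex.toCycles_i, zero_comp,
    HomologicalComplex.iCycles_d]

/-- `0 → Z^{m-1} → J^{m-1} → B^m → 0`. -/
abbrev zjb (m : ℤ) : ShortComplex (ModEt X) :=
  ShortComplex.mk (J.iCycles (m - 1)) (toBd J m) (iCycles_toBd J m)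

theorem zjb_shortExact (m : ℤ) : (zjb J m).ShortExact := by
  let S := ShortComplex.mk (J.toCycles (m - 1) m) (J.homologyπ m) (J.toCycles_comp_homologyπ _ _)
  have hS : S.Exact :=
    ShortComplex.exact_of_g_is_cokernel _ (J.homologyIsCokernel (m - 1) m (by simp))
  haveI : Epi (toBd J m) := (ShortComplex.exact_iff_epi_kernel_lift S).1 hS
  let S' := ShortComplex.mk (J.iCycles (m - 1)) (J.d (m - 1) m) (J.iCycles_d _ _)
  have hS' : S'.Exact :=
    ShortComplex.exact_of_f_is_kernel _ (J.cyclesIsKernel (m - 1) m (by simp))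
  let φ : zjb J m ⟶ S' :=
    { τ₁ := 𝟙 _
      τ₂ := 𝟙 _
      τ₃ := kernel.ι (J.homologyπ m) ≫ J.iCycles m
      comm₁₂ := by simp [S']
      comm₂₃ := by simp [S', toBd] }
  haveI : Epi φ.τ₁ := inferInstanceAs (Epi (𝟙 _))
  haveI : IsIso φ.τ₂ := inferInstanceAs (IsIso (𝟙 _))
  haveI : Mono φ.τ₃ := inferInstanceAs (Mono (kernel.ι (J.homologyπ m) ≫ J.iCycles m))
  exact ShortComplex.ShortExact.mk' ((ShortComplex.exact_iff_of_epi_of_isIso_of_mono φ).2 hS')
    inferInstance inferInstance

/-- Sections over affine objects of `J^{m-1} → Z^m → H^m → 0` are exact. -/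
structure AffExact (J : CochainComplex (ModEt X) ℤ) (E : EtOver X) (m : ℤ) : Prop where
  surj : Function.Surjective (appS (J.homologyπ m) E)
  exact : ∀ z, appS (J.homologyπ m) E z = 0 → ∃ w, appS (J.toCycles (m - 1) m) E w = z

variable {J}

theorem mAcyclic_bd [∀ n, Injective (J.X n)] (a : ℤ) [J.IsStrictlyGE a]
    (hq : ∀ q, (J.homology q).IsQuasicoherent) (m : ℤ) : MAcyclic (bd J m) := by
  suffices H : ∀ (d : ℕ) (m : ℤ), m ≤ a + d → MAcyclic (bd J m) from H (m - a).toNat m (by omega)
  intro d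
  induction d with
  | zero =>
    intro m hm
    haveI := (zjb_shortExact J m).epi_g
    exact mAcyclic_of_isZero (IsZero.of_epi (toBd J m) (J.isZero_of_isStrictlyGE a (m - 1) (by omega)))
  | succ d ih =>
    intro m hm
    rcases le_or_gt m (a + d) with h | h
    · exact ih m h
    · haveI := hq (m - 1)
      haveI : Injective (zjb J m).X₂ := inferInstanceAs (Injective (J.X (m - 1)))
      exact mAcyclic_quotient (zjb_shortExact J m)
        (mAcyclic_extension (bzh_shortExact J (m - 1)) (ih (m - 1) (by omega)) (mAcyclic_of_qcoh _))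

theorem affExact [∀ n, Injective (J.X n)] (a : ℤ) [J.IsStrictlyGE a]
    (hq : ∀ q, (J.homology q).IsQuasicoherent) (E : EtOver X) [IsAffine E.obj.left.left] (m : ℤ) :
    AffExact J E m := by
  constructor
  · exact surjective_appS_of_mAcyclic (bzh_shortExact J m) (mAcyclic_bd a hq m) E
  · intro z hz
    obtain ⟨b, hb⟩ := (exact_appS (T := bzh J m) (bzh_shortExact J m).exact E z).1 hz
    haveI := hq (m - 1)
    obtain ⟨w, hw⟩ := surjective_appS_of_mAcyclic (zjb_shortExact J m)
      (mAcyclic_extension (bzh_shortExact J (m - 1)) (mAcyclic_bd a hq (m - 1)) (mAcyclic_of_qcoh _)) E b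
    refine ⟨w, ?_⟩
    refine Eq.trans ?_ hb
    refine Eq.trans ?_ (congrArg (appS (kernel.ι (J.homologyπ m)) E) hw)
    exact congrArg (fun ψ => appS ψ E w) (kernel.lift_ι (J.homologyπ m) (J.toCycles (m - 1) m) (J.toCycles_comp_homologyπ _ _)).symm

end Complex

section Prod

variable {T : Type} (J : T → CochainComplex (ModEt X) ℤ)

theorem piT_sec_ext (M : T → ModEt X) (E : EtOver X) (x y : sec (∏ᶜ M) E)
    (h : ∀ t, appS (Pi.π M t) E x = appS (Pi.π M t) E y) : x = y :=
  haveI : PreservesLimitsOfShape (Discrete T) (secT E) := comp_preservesLimitsOfShape _ _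
  prod_sec_ext (secT E) M x y h

theorem piT_sec_exists (M : T → ModEt X) (E : EtOver X) (x : ∀ t, sec (M t) E) :
    ∃ y : sec (∏ᶜ M) E, ∀ t, appS (Pi.π M t) E y = x t :=
  haveI : PreservesLimitsOfShape (Discrete T) (secT E) := comp_preservesLimitsOfShape _ _
  prod_sec_exists (secT E) M x

theorem prodX_sec_ext (i : ℤ) (E : EtOver X) (x y : sec ((∏ᶜ J).X i) E)
    (h : ∀ n, appS ((Pi.π J n).f i) E x = appS ((Pi.π J n).f i) E y) : x = y :=
  haveI : PreservesLimitsOfShape (Discrete T) (HomologicalComplex.eval (ModEt X) (ComplexShape.up ℤ) i ⋙ secT E) :=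
    comp_preservesLimitsOfShape _ _
  prod_sec_ext (HomologicalComplex.eval (ModEt X) (ComplexShape.up ℤ) i ⋙ secT E) J x y h

theorem prodX_sec_exists (i : ℤ) (E : EtOver X) (x : ∀ n, sec ((J n).X i) E) :
    ∃ y : sec ((∏ᶜ J).X i) E, ∀ n, appS ((Pi.π J n).f i) E y = x n :=
  haveI : PreservesLimitsOfShape (Discrete T) (HomologicalComplex.eval (ModEt X) (ComplexShape.up ℤ) i ⋙ secT E) :=
    comp_preservesLimitsOfShape _ _
  prod_sec_exists (HomologicalComplex.eval (ModEt X) (ComplexShape.up ℤ) i ⋙ secT E) J x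

/-- The comparison of homology. -/
abbrev hComp (m : ℤ) : (∏ᶜ J).homology m ⟶ ∏ᶜ fun n => (J n).homology m :=
  Pi.lift fun n => HomologicalComplex.homologyMap (Pi.π J n) m

theorem hComp_π (m : ℤ) (n : T) : (∏ᶜ J).homologyπ m ≫ hComp J m ≫ Pi.π (fun n => (J n).homology m) n =
    HomologicalComplex.cyclesMap (Pi.π J n) m ≫ (J n).homologyπ m := by
  rw [Pi.lift_π, HomologicalComplex.homologyπ_naturality]

theorem iCycles_sec_eq (m : ℤ) (E : EtOver X) (n : T) (z : sec ((∏ᶜ J).cycles m) E) :
    appS ((J n).iCycles m) E (appS (HomologicalComplex.cyclesMap (Pi.π J n) m) E z) =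
      appS ((Pi.π J n).f m) E (appS ((∏ᶜ J).iCycles m) E z) := by
  rw [← appS_comp', ← appS_comp', HomologicalComplex.cyclesMap_i]

theorem appS_hComp_π (m : ℤ) (E : EtOver X) (n : T) (z : sec ((∏ᶜ J).cycles m) E) :
    appS (Pi.π (fun n => (J n).homology m) n) E (appS (hComp J m) E (appS ((∏ᶜ J).homologyπ m) E z)) =
      appS ((J n).homologyπ m) E (appS (HomologicalComplex.cyclesMap (Pi.π J n) m) E z) := by
  rw [← appS_comp', ← appS_comp', hComp_π, appS_comp']

theorem appS_iCycles_toCycles (K : CochainComplex (ModEt X) ℤ) (i j : ℤ) (E : EtOver X) (y : sec (K.X i) E) :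
    appS (K.iCycles j) E (appS (K.toCycles i j) E y) = appS (K.d i j) E y := by
  rw [← appS_comp', K.toCycles_i]

theorem appS_homologyπ_toCycles (K : CochainComplex (ModEt X) ℤ) (i j : ℤ) (E : EtOver X) (y : sec (K.X i) E) :
    appS (K.homologyπ j) E (appS (K.toCycles i j) E y) = 0 := by
  rw [← appS_comp', K.toCycles_comp_homologyπ]
  rfl

theorem appS_d_π (i j : ℤ) (E : EtOver X) (n : T) (x : sec ((∏ᶜ J).X i) E) :
    appS ((Pi.π J n).f j) E (appS ((∏ᶜ J).d i j) E x) = appS ((J n).d i j) E (appS ((Pi.π J n).f i) E x) :=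
  congrArg (fun ψ => appS ψ E x) ((Pi.π J n).comm i j).symm

theorem appS_iCycles_d (K : CochainComplex (ModEt X) ℤ) (i j : ℤ) (E : EtOver X) (z : sec (K.cycles i) E) :
    appS (K.d i j) E (appS (K.iCycles i) E z) = 0 := by
  rw [← appS_comp', K.iCycles_d]
  rfl

theorem exists_cycle (K : CochainComplex (ModEt X) ℤ) (m : ℤ) (E : EtOver X) (x : sec (K.X m) E)
    (hx : appS (K.d m (m + 1)) E x = 0) : ∃ z, appS (K.iCycles m) E z = x :=
  (exact_appS (T := ShortComplex.mk (K.iCycles m) (K.d m (m + 1)) (K.iCycles_d _ _))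
    (ShortComplex.exact_of_f_is_kernel _ (K.cyclesIsKernel m (m + 1) (by simp))) E x).1 hx

theorem exists_cycle_family (m : ℤ) (E : EtOver X) (z : ∀ n, sec ((J n).cycles m) E) :
    ∃ w, ∀ n, appS (HomologicalComplex.cyclesMap (Pi.π J n) m) E w = z n := by
  obtain ⟨x, hx⟩ := prodX_sec_exists J m E fun n => appS ((J n).iCycles m) E (z n)
  have h0 : appS ((∏ᶜ J).d m (m + 1)) E x = 0 := by
    refine prodX_sec_ext J (m + 1) E _ _ fun n => ?_
    rw [appS_d_π, hx n, appS_iCycles_d, map_zero]
  obtain ⟨w, hw⟩ := exists_cycle (∏ᶜ J) m E x h0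
  refine ⟨w, fun n => injective_appS ((J n).iCycles m) E ?_⟩
  rw [iCycles_sec_eq, hw, hx n]

set_option maxHeartbeats 8000000 in
theorem exists_toCycles_family (m : ℤ) (E : EtOver X) (z : sec ((∏ᶜ J).cycles m) E)
    (w : ∀ n, sec ((J n).X (m - 1)) E)
    (hw : ∀ n, appS ((J n).toCycles (m - 1) m) E (w n) = appS (HomologicalComplex.cyclesMap (Pi.π J n) m) E z) :
    ∃ y, appS ((∏ᶜ J).toCycles (m - 1) m) E y = z := by
  obtain ⟨y, hy⟩ := prodX_sec_exists J (m - 1) E w
  refine ⟨y, injective_appS ((∏ᶜ J).iCycles m) E ?_⟩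
  refine prodX_sec_ext J m E _ _ fun n => ?_
  rw [appS_iCycles_toCycles, appS_d_π, hy n, ← iCycles_sec_eq, ← hw n, appS_iCycles_toCycles]

theorem surjective_hComp (m : ℤ) (E : EtOver X) (h : ∀ n, AffExact (J n) E m) :
    Function.Surjective (appS (hComp J m) E) := by
  intro s
  choose z hz using fun n => (h n).surj (appS (Pi.π (fun n => (J n).homology m) n) E s)
  obtain ⟨w, hw⟩ := exists_cycle_family J m E z
  refine ⟨appS ((∏ᶜ J).homologyπ m) E w, piT_sec_ext _ E _ _ fun n => ?_⟩
  rw [appS_hComp_π, hw n, hz n]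

theorem homologyπ_eq_zero (m : ℤ) (E : EtOver X) (h : ∀ n, AffExact (J n) E m) (z : sec ((∏ᶜ J).cycles m) E)
    (hz : appS (hComp J m) E (appS ((∏ᶜ J).homologyπ m) E z) = 0) : appS ((∏ᶜ J).homologyπ m) E z = 0 := by
  have hn : ∀ n, ∃ w, appS ((J n).toCycles (m - 1) m) E w = appS (HomologicalComplex.cyclesMap (Pi.π J n) m) E z := by
    intro n
    refine (h n).exact _ ?_
    rw [← appS_hComp_π, hz, map_zero]
  choose w hw using hn
  obtain ⟨y, hy⟩ := exists_toCycles_family J m E z w hw
  rw [← hy]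
  exact appS_homologyπ_toCycles (∏ᶜ J) (m - 1) m E y

set_option maxHeartbeats 8000000 in
theorem isIso_hComp (m : ℤ) (h : ∀ E : EtOver X, IsAffine E.obj.left.left → ∀ n, AffExact (J n) E m) :
    IsIso (hComp J m) := by
  refine isIso_of_affine _ (fun E hE s hs => ?_) fun E hE => surjective_hComp J m E (h E hE)
  haveI := hE
  obtain ⟨R, hR, hRg⟩ := locally_surjective_of_epi ((∏ᶜ J).homologyπ m) E s
  obtain ⟨n, Y₀, g₀, hY₀, hg₀, hcov⟩ := exists_finite_affine_refinement hR
  refine eq_of_cover _ Y₀ g₀ hcov _ _ fun i => ?_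
  obtain ⟨z, hz⟩ := hRg (g₀ i) (hg₀ i)
  rw [map_zero, ← hz]
  refine homologyπ_eq_zero J m (Y₀ i) (h _ (hY₀ i)) z ?_
  rw [hz, appS_res, hs, map_zero]

end Prod

theorem exists_injective_of_isGE (K : DCoh.DMod (OEtRing X)) (a : ℤ) [K.IsGE a] :
    ∃ I : CochainComplex (ModEt X) ℤ, (∀ n, Injective (I.X n)) ∧ I.IsStrictlyGE a ∧
      Nonempty (K ≅ DerivedCategory.Q.obj I) := by
  obtain ⟨L, hL, ⟨eL⟩⟩ := DerivedCategory.exists_iso_Q_obj_of_isGE K a
  haveI : EnoughInjectives (ModEt X) := ModEtInjLib.enoughInjectives_sheaf (OEtRing X)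
  obtain ⟨I, i, hI, hinj, -, hi⟩ := Groth.Agent.DerLib.Horseshoe.exists_injective_resolution L a
  haveI := hi
  exact ⟨I, hinj, hI, ⟨eL ≪≫ asIso (DerivedCategory.Q.map i)⟩⟩

section GenPi

open Pretriangulated
universe w v' u'
variable {A : Type u'} [Category.{v'} A] [Abelian A] [HasDerivedCategory.{w} A] {T : Type}

/-- Cohomology of a product of K-injective complexes, in the derived category. -/
theorem isIso_piComparison_of_kInjective (K : T → DerivedCategory A) [HasProduct K] (I : T → CochainComplex A ℤ)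
    [HasProduct I] (hK : ∀ n, (I n).IsKInjective) (eI : ∀ n, K n ≅ DerivedCategory.Q.obj (I n)) (m : ℤ)
    [HasProduct fun n => (DerivedCategory.homologyFunctor A m).obj (K n)] [HasProduct fun n => (I n).homology m]
    (h : IsIso (Pi.lift fun n => HomologicalComplex.homologyMap (Pi.π I n) m :
      (∏ᶜ I).homology m ⟶ ∏ᶜ fun n => (I n).homology m)) :
    IsIso (piComparison (DerivedCategory.homologyFunctor A m) K) := by
  haveI : HasProduct fun n => DerivedCategory.Q.obj (I n) :=
    hasLimit_of_iso (F := Discrete.functor K) (Discrete.natIso fun ⟨n⟩ => eI n)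
  haveI := isIso_lift_Q_map (fun n => Pi.π I n) (productIsProduct I) hK
  let G := DerivedCategory.homologyFunctor A m
  let k : DerivedCategory.Q.obj (∏ᶜ I) ⟶ ∏ᶜ K :=
    Pi.lift fun n => DerivedCategory.Q.map (Pi.π I n) ≫ (eI n).inv
  haveI : IsIso (Limits.Pi.map fun n => (eI n).inv) :=
    ⟨Limits.Pi.map fun n => (eI n).hom, Limits.Pi.hom_ext _ _ fun n => by
      simp only [Category.assoc, Pi.map_π, Pi.map_π_assoc, Iso.inv_hom_id, Category.comp_id, Category.id_comp],
      Limits.Pi.hom_ext _ _ fun n => by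
      simp only [Category.assoc, Pi.map_π, Pi.map_π_assoc, Iso.hom_inv_id, Category.comp_id, Category.id_comp]⟩
  haveI : IsIso k := by
    rw [show k = (Pi.lift fun n => DerivedCategory.Q.map (Pi.π I n)) ≫ Limits.Pi.map fun n => (eI n).inv from
      Limits.Pi.hom_ext _ _ fun n => by simp only [k, Category.assoc, Pi.map_π, Pi.lift_π, Pi.lift_π_assoc]]
    infer_instance
  let eH : ∀ n, G.obj (K n) ≅ (I n).homology m := fun n =>
    G.mapIso (eI n) ≪≫ (DerivedCategory.homologyFunctorFactors A m).app (I n)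
  haveI : IsIso (Limits.Pi.map fun n => (eH n).hom) :=
    ⟨Limits.Pi.map fun n => (eH n).inv, Limits.Pi.hom_ext _ _ fun n => by
      simp only [Category.assoc, Pi.map_π, Pi.map_π_assoc, Iso.hom_inv_id, Category.comp_id, Category.id_comp],
      Limits.Pi.hom_ext _ _ fun n => by
      simp only [Category.assoc, Pi.map_π, Pi.map_π_assoc, Iso.inv_hom_id, Category.comp_id, Category.id_comp]⟩
  have he : (G.map k ≫ piComparison G K) ≫ Limits.Pi.map (fun n => (eH n).hom) =
      (DerivedCategory.homologyFunctorFactors A m).hom.app (∏ᶜ I) ≫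
        Pi.lift fun n => HomologicalComplex.homologyMap (Pi.π I n) m := by
    refine Limits.Pi.hom_ext _ _ fun n => ?_
    simp only [Category.assoc, Limits.Pi.map_π, Pi.lift_π]
    rw [piComparison_comp_π_assoc, ← G.map_comp_assoc]
    simp only [k, Pi.lift_π]
    show G.map _ ≫ G.map (eI n).hom ≫ _ = _
    rw [← G.map_comp_assoc, Category.assoc, Iso.inv_hom_id, Category.comp_id]
    exact (DerivedCategory.homologyFunctorFactors A m).hom.naturality (Pi.π I n)
  haveI : IsIso ((DerivedCategory.homologyFunctorFactors A m).hom.app (∏ᶜ I) ≫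
      Pi.lift fun n => HomologicalComplex.homologyMap (Pi.π I n) m) :=
    @IsIso.comp_isIso _ _ _ _ _ _ _ inferInstance h
  haveI : IsIso (G.map k ≫ piComparison G K) := IsIso.of_isIso_fac_right he
  exact IsIso.of_isIso_comp_left (G.map k) _

end GenPi

/-- Cohomology sheaves commute with products of bounded below objects with quasi-coherent cohomology. -/
theorem isIso_piComparison_of_isGE {T : Type} (K : T → DCoh.DMod (OEtRing X)) [HasProduct K] (a : T → ℤ)
    (hGE : ∀ n, (K n).IsGE (a n)) (hq : ∀ n, DCoh.IsQCohDMod (OEtRing X) (K n)) (m : ℤ) :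
    IsIso (piComparison (DerivedCategory.homologyFunctor (ModEt X) m) K) := by
  haveI := hGE
  choose I hinj hge e using fun n => exists_injective_of_isGE (K n) (a n)
  have hK : ∀ n, (I n).IsKInjective := fun n => by
    haveI := hinj n; haveI := hge n
    exact CochainComplex.isKInjective_of_injective (I n) (a n)
  have hq' : ∀ n q, ((I n).homology q).IsQuasicoherent := fun n q =>
    ObjectProperty.prop_of_iso (SheafOfModules.isQuasicoherent (OEtRing X)) ((DerivedCategory.homologyFunctor (ModEt X) q).mapIso (e n).some ≪≫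
      (DerivedCategory.homologyFunctorFactors (ModEt X) q).app (I n)) (hq n q)
  exact isIso_piComparison_of_kInjective K I hK (fun n => (e n).some) m (isIso_hComp I m fun E hE n => by
    haveI := hinj n; haveI := hge n; haveI := hE
    exact affExact (a n) (hq' n) E m)

end Groth.Agent.AlgSpRlimLib
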