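import Groth.Agent.AlgSpRlimLib.Kernel
import Groth.Agent.DerLib.KInjDerived
import Groth.Agent.DerLib.KInjTriangulated
import Groth.Agent.QRlimLib.Rlim

/-!
# Right derived functors with values in abelian groups and countable products
-/

set_option autoImplicit false
set_option linter.unusedSectionVars false
set_option linter.style.haveILetI false
set_option backward.isDefEq.respectTransparency false
set_option backward.isDefEq.respectTransparency.types false
set_option maxHeartbeats 1000000

universe w v' u' u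

open CategoryTheory CategoryTheory.Limits Opposite Pretriangulated

noncomputable section

attribute [local instance] HasDerivedCategory.standard

namespace Groth.Agent.AlgSpRlimLib

section Ab

variable (K : CochainComplex AddCommGrpCat.{u} ℤ) (m : ℤ)

theorem ab_exists_cycle (x : K.X m) (hx : K.d m (m + 1) x = 0) : ∃ z, K.iCycles m z = x :=
  (ShortComplex.ab_exact_iff (ShortComplex.mk (K.iCycles m) (K.d m (m + 1)) (K.iCycles_d _ _))).1
    (ShortComplex.exact_of_f_is_kernel _ (K.cyclesIsKernel m (m + 1) (by simp))) x hx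

theorem ab_exists_boundary (z : K.cycles m) (hz : K.homologyπ m z = 0) : ∃ y, K.toCycles (m - 1) m y = z :=
  (ShortComplex.ab_exact_iff (ShortComplex.mk (K.toCycles (m - 1) m) (K.homologyπ m)
    (K.toCycles_comp_homologyπ _ _))).1
    (ShortComplex.exact_of_g_is_cokernel _ (K.homologyIsCokernel (m - 1) m (by simp))) z hz

theorem ab_iCycles_injective : Function.Injective (K.iCycles m) :=
  (AddCommGrpCat.mono_iff_injective _).1 inferInstance

theorem ab_homologyπ_surjective : Function.Surjective (K.homologyπ m) :=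
  (AddCommGrpCat.epi_iff_surjective _).1 inferInstance

end Ab

variable {A : Type u'} [Category.{v'} A] [Abelian A] [HasLimitsOfShape (Discrete ℕ) A]
  (F : A ⥤ AddCommGrpCat.{u}) [F.Additive] [PreservesLimitsOfShape (Discrete ℕ) F]

/-- The homology of the image of a product of complexes is the product of the homologies. -/
theorem isIso_homology_map_prod (J : ℕ → CochainComplex A ℤ) (m : ℤ) :
    IsIso (Pi.lift fun n => HomologicalComplex.homologyMap ((F.mapHomologicalComplex (ComplexShape.up ℤ)).map (Pi.π J n)) m) := by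
  let F' := F.mapHomologicalComplex (ComplexShape.up ℤ)
  haveI : ∀ j : ℤ, PreservesLimitsOfShape (Discrete ℕ) (HomologicalComplex.eval A (ComplexShape.up ℤ) j ⋙ F ⋙ forget AddCommGrpCat.{u}) :=
    fun j => comp_preservesLimitsOfShape _ _
  have ext : ∀ (j : ℤ) (x y : (F'.obj (∏ᶜ J)).X j), (∀ n, (F'.map (Pi.π J n)).f j x = (F'.map (Pi.π J n)).f j y) → x = y :=
    fun j x y h => prod_sec_ext (HomologicalComplex.eval A (ComplexShape.up ℤ) j ⋙ F ⋙ forget AddCommGrpCat.{u}) J x y h
  have exi : ∀ (j : ℤ) (x : ∀ n, (F'.obj (J n)).X j), ∃ y : (F'.obj (∏ᶜ J)).X j, ∀ n, (F'.map (Pi.π J n)).f j y = x n :=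
    fun j x => prod_sec_exists (HomologicalComplex.eval A (ComplexShape.up ℤ) j ⋙ F ⋙ forget AddCommGrpCat.{u}) J x
  let H := fun n => (F'.obj (J n)).homology m
  let φ : (F'.obj (∏ᶜ J)).homology m ⟶ ∏ᶜ H := Pi.lift fun n => HomologicalComplex.homologyMap (F'.map (Pi.π J n)) m
  have hφ : ∀ n z, Pi.π H n (φ ((F'.obj (∏ᶜ J)).homologyπ m z)) =
      (F'.obj (J n)).homologyπ m (HomologicalComplex.cyclesMap (F'.map (Pi.π J n)) m z) := fun n z => by
    rw [← ConcreteCategory.comp_apply, ← ConcreteCategory.comp_apply, Pi.lift_π,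
      HomologicalComplex.homologyπ_naturality, ConcreteCategory.comp_apply]
  have hcyc : ∀ n z, (F'.obj (J n)).iCycles m (HomologicalComplex.cyclesMap (F'.map (Pi.π J n)) m z) =
      (F'.map (Pi.π J n)).f m ((F'.obj (∏ᶜ J)).iCycles m z) := fun n z => by
    rw [← ConcreteCategory.comp_apply, ← ConcreteCategory.comp_apply, HomologicalComplex.cyclesMap_i]
  have hext : ∀ (x y : (∏ᶜ H : AddCommGrpCat.{u})), (∀ n, Pi.π H n x = Pi.π H n y) → x = y :=
    fun x y h => prod_sec_ext (forget AddCommGrpCat.{u}) H x y h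
  refine (ConcreteCategory.isIso_iff_bijective φ).2 ⟨(injective_iff_map_eq_zero φ.hom).2 fun s hs => ?_, fun s => ?_⟩
  · obtain ⟨z, rfl⟩ := ab_homologyπ_surjective _ m s
    have hn : ∀ n, ∃ y, (F'.obj (J n)).toCycles (m - 1) m y = HomologicalComplex.cyclesMap (F'.map (Pi.π J n)) m z :=
      fun n => ab_exists_boundary _ m _ ((hφ n z).symm.trans ((congrArg (Pi.π H n) hs).trans (map_zero _)))
    choose y hy using hn
    obtain ⟨w, hw⟩ := exi (m - 1) y
    have e : (F'.obj (∏ᶜ J)).toCycles (m - 1) m w = z := by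
      refine ab_iCycles_injective _ m (ext m _ _ fun n => ?_)
      rw [← hcyc n z, ← hy n, ← ConcreteCategory.comp_apply, ← ConcreteCategory.comp_apply,
        ← ConcreteCategory.comp_apply, HomologicalComplex.toCycles_i, HomologicalComplex.toCycles_i_assoc,
        ← HomologicalComplex.Hom.comm, ConcreteCategory.comp_apply, hw n]
    rw [← e, ← ConcreteCategory.comp_apply, HomologicalComplex.toCycles_comp_homologyπ]
    rfl
  · choose z hz using fun n => ab_homologyπ_surjective _ m (Pi.π H n s)
    obtain ⟨x, hx⟩ := exi m fun n => (F'.obj (J n)).iCycles m (z n)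
    obtain ⟨w, hw⟩ := ab_exists_cycle (F'.obj (∏ᶜ J)) m x (ext (m + 1) _ _ fun n => by
      rw [map_zero, ← ConcreteCategory.comp_apply, ← HomologicalComplex.Hom.comm, ConcreteCategory.comp_apply, hx n,
        ← ConcreteCategory.comp_apply, HomologicalComplex.iCycles_d]
      rfl)
    refine ⟨(F'.obj (∏ᶜ J)).homologyπ m w, hext _ _ fun n => ?_⟩
    refine (hφ n w).trans ((congrArg _ ?_).trans (hz n))
    exact ab_iCycles_injective _ m ((hcyc n w).trans ((congrArg _ hw).trans (hx n)))

variable [HasDerivedCategory.{w} A] (RF : DerivedCategory A ⥤ DerivedCategory AddCommGrpCat.{u})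
  (α : F.mapHomotopyCategory (ComplexShape.up ℤ) ⋙ DerivedCategory.Qh ⟶ DerivedCategory.Qh ⋙ RF)

/-- The cohomology of a derived functor. -/
abbrev GH (i : ℤ) : DerivedCategory A ⥤ AddCommGrpCat.{u} :=
  RF ⋙ DerivedCategory.homologyFunctor AddCommGrpCat.{u} i

/-- The comparison of a functor with its derived functor. -/
def toRF : F.mapHomologicalComplex (ComplexShape.up ℤ) ⋙ DerivedCategory.Q ⟶ DerivedCategory.Q ⋙ RF where
  app L := (DerivedCategory.quotientCompQhIso AddCommGrpCat.{u}).inv.app ((F.mapHomologicalComplex (ComplexShape.up ℤ)).obj L) ≫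
    DerivedCategory.Qh.map ((F.mapHomotopyCategoryFactors (ComplexShape.up ℤ)).inv.app L) ≫
    α.app ((HomotopyCategory.quotient A (ComplexShape.up ℤ)).obj L) ≫
    RF.map ((DerivedCategory.quotientCompQhIso A).hom.app L)
  naturality L L' f := by
    have h1 := (DerivedCategory.quotientCompQhIso AddCommGrpCat.{u}).inv.naturality
      ((F.mapHomologicalComplex (ComplexShape.up ℤ)).map f)
    have h2 := congrArg DerivedCategory.Qh.map ((F.mapHomotopyCategoryFactors (ComplexShape.up ℤ)).inv.naturality f)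
    have h3 := α.naturality ((HomotopyCategory.quotient A (ComplexShape.up ℤ)).map f)
    have h4 := congrArg RF.map ((DerivedCategory.quotientCompQhIso A).hom.naturality f)
    simp only [Functor.comp_map, Functor.map_comp] at h1 h2 h3 h4 ⊢
    rw [reassoc_of% h1, reassoc_of% h2, reassoc_of% h3, h4]
    simp only [Category.assoc]

/-- The comparison of cohomology. -/
def toGH (i : ℤ) : F.mapHomologicalComplex (ComplexShape.up ℤ) ⋙ HomologicalComplex.homologyFunctor _ _ i ⟶
    DerivedCategory.Q ⋙ GH RF i :=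
  Functor.whiskerLeft (F.mapHomologicalComplex (ComplexShape.up ℤ))
    (DerivedCategory.homologyFunctorFactors AddCommGrpCat.{u} i).inv ≫
    Functor.whiskerRight (toRF F RF α) (DerivedCategory.homologyFunctor AddCommGrpCat.{u} i)

variable [RF.IsRightDerivedFunctor α (HomotopyCategory.quasiIso A (ComplexShape.up ℤ))]
  (hA : Groth.Agent.DerLib.KInjDerived.EnoughKInj A)

include hA in
theorem isIso_toGH (i : ℤ) (L : CochainComplex A ℤ) [L.IsKInjective] : IsIso ((toGH F RF α i).app L) := by
  haveI := Groth.Agent.DerLib.KInjDerived.isIso_app RF α hA L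
  haveI : IsIso ((toRF F RF α).app L) := by
    dsimp [toRF]
    infer_instance
  dsimp [toGH]
  infer_instance

include hA α in
theorem isIso_piComparison_GH (K : ℕ → DerivedCategory A) [HasProduct K] (i : ℤ) :
    IsIso (piComparison (GH RF i) K) := by
  choose I f hI hf using fun n => hA (DerivedCategory.Q.objPreimage (K n))
  let eI : ∀ n, DerivedCategory.Q.obj (I n) ≅ K n := fun n =>
    haveI := hf n
    (asIso (DerivedCategory.Q.map (f n))).symm ≪≫ DerivedCategory.Q.objObjPreimageIso (K n)
  haveI : HasProduct fun n => DerivedCategory.Q.obj (I n) :=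
    hasLimit_of_iso (F := Discrete.functor K) (Discrete.natIso fun ⟨n⟩ => (eI n).symm)
  haveI := isIso_lift_Q_map (fun n => Pi.π I n) (productIsProduct I) hI
  haveI := DerLib.KInjUse.isKInjective_pi I hI
  haveI := isIso_toGH F RF α hA i (∏ᶜ I)
  haveI : ∀ n, IsIso ((toGH F RF α i).app (I n)) := fun n => haveI := hI n; isIso_toGH F RF α hA i (I n)
  let k : DerivedCategory.Q.obj (∏ᶜ I) ⟶ ∏ᶜ K := Pi.lift fun n => DerivedCategory.Q.map (Pi.π I n) ≫ (eI n).hom
  haveI := isIso_piMap (fun n => (eI n).hom) (fun n => inferInstance)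
  haveI : IsIso k := by
    rw [show k = (Pi.lift fun n => DerivedCategory.Q.map (Pi.π I n)) ≫ Limits.Pi.map fun n => (eI n).hom from
      Limits.Pi.hom_ext _ _ fun n => by simp only [k, Category.assoc, Pi.map_π, Pi.lift_π, Pi.lift_π_assoc]]
    infer_instance
  haveI := isIso_piMap (fun n => (toGH F RF α i).app (I n) ≫ (GH RF i).map (eI n).hom) (fun n => inferInstance)
  haveI := isIso_homology_map_prod F I i
  have e : ((toGH F RF α i).app (∏ᶜ I) ≫ (GH RF i).map k) ≫ piComparison (GH RF i) K =
      (Pi.lift fun n => HomologicalComplex.homologyMap ((F.mapHomologicalComplex (ComplexShape.up ℤ)).map (Pi.π I n)) i) ≫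
        Limits.Pi.map fun n => (toGH F RF α i).app (I n) ≫ (GH RF i).map (eI n).hom := by
    refine Limits.Pi.hom_ext _ _ fun n => ?_
    simp only [Category.assoc, piComparison_comp_π, Pi.map_π, ← Functor.map_comp, k, Pi.lift_π, Pi.lift_π_assoc]
    rw [Functor.map_comp, ← Category.assoc ((toGH F RF α i).app (∏ᶜ I))]
    refine Eq.trans ?_ (Category.assoc _ _ _)
    exact congrArg (· ≫ (GH RF i).map (eI n).hom) ((toGH F RF α i).naturality (Pi.π I n)).symm
  haveI : IsIso (((toGH F RF α i).app (∏ᶜ I) ≫ (GH RF i).map k) ≫ piComparison (GH RF i) K) := by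
    rw [e]; infer_instance
  exact IsIso.of_isIso_comp_left ((toGH F RF α i).app (∏ᶜ I) ≫ (GH RF i).map k) _

include hA α in
/-- A derived limit of a tower stable in a degree has the stable value. -/
theorem isIso_GH_rlim (K : ℕ → DerivedCategory A) (t : ∀ n, K (n + 1) ⟶ K n) [HasProduct K] {L : DerivedCategory A}
    (a : L ⟶ ∏ᶜ K) (c : (∏ᶜ K) ⟶ L⟦(1 : ℤ)⟧) (hT : Triangle.mk a (oneSubG t) c ∈ distTriang _) (i : ℤ) (N : ℕ)
    (h₀ : ∀ n, N ≤ n → IsIso ((GH RF (i - 1)).map (t n))) (h₁ : ∀ n, N ≤ n → IsIso ((GH RF i).map (t n))) :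
    IsIso ((GH RF i).map (a ≫ Pi.π K N)) := by
  obtain ⟨_, _⟩ := Groth.Agent.DerLib.KInjDerived.exists_isTriangulated_map hA F RF α
  haveI hc := isIso_piComparison_GH F RF α hA K i
  haveI hc' := isIso_piComparison_GH F RF α hA K (i - 1)
  have pext : ∀ (M : ℕ → AddCommGrpCat.{u}) (x y : (∏ᶜ M : AddCommGrpCat.{u})),
      (∀ n, Pi.π M n x = Pi.π M n y) → x = y := fun M x y h => prod_sec_ext (forget AddCommGrpCat.{u}) M x y h
  have pexi : ∀ (M : ℕ → AddCommGrpCat.{u}) (x : ∀ n, M n), ∃ y : (∏ᶜ M : AddCommGrpCat.{u}), ∀ n, Pi.π M n y = x n :=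
    fun M x => prod_sec_exists (forget AddCommGrpCat.{u}) M x
  have hone : ∀ (q : ℤ) (z : (∏ᶜ fun n => (GH RF q).obj (K n) : AddCommGrpCat.{u})) (n : ℕ),
      Pi.π (fun n => (GH RF q).obj (K n)) n (oneSubG (M := fun n => (GH RF q).obj (K n)) (fun n => (GH RF q).map (t n)) z) =
        Pi.π (fun n => (GH RF q).obj (K n)) n z - (GH RF q).map (t n) (Pi.π (fun n => (GH RF q).obj (K n)) (n + 1) z) := by
    intro q z n
    rw [← ConcreteCategory.comp_apply, oneSubG, Pi.lift_π]
    rfl
  haveI hs : Epi (oneSubG (M := fun n => (GH RF (i - 1)).obj (K n)) fun n => (GH RF (i - 1)).map (t n)) := by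
    refine (AddCommGrpCat.epi_iff_surjective _).2 fun b => ?_
    obtain ⟨r, hr⟩ := QRlimLib.exists_sub_eq N (fun n => ((GH RF (i - 1)).obj (K n) : Type u))
      (fun n => ((GH RF (i - 1)).map (t n)).hom)
      (fun n hn => haveI := h₀ n hn; ((ConcreteCategory.isIso_iff_bijective ((GH RF (i - 1)).map (t n))).1 inferInstance).2)
      fun n => Pi.π (fun n => (GH RF (i - 1)).obj (K n)) n b
    obtain ⟨z, hz⟩ := pexi _ r
    refine ⟨z, pext _ _ _ fun n => ?_⟩
    rw [hone, hz, hz]
    exact hr n
  have he' : Epi ((DerivedCategory.homologyFunctor AddCommGrpCat.{u} (i - 1)).map (RF.mapTriangle.obj (Triangle.mk a (oneSubG t) c)).mor₂) := by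
    show Epi ((GH RF (i - 1)).map (oneSubG t))
    rw [show (GH RF (i - 1)).map (oneSubG t) = piComparison (GH RF (i - 1)) K ≫ oneSubG _ ≫
        inv (piComparison (GH RF (i - 1)) K) by
      rw [← Category.assoc, ← map_oneSubG, Category.assoc, IsIso.hom_inv_id, Category.comp_id]]
    infer_instance
  obtain ⟨hmono, hlift⟩ := kernel_of_triangle _ (RF.map_distinguished _ hT) i he'
  haveI : Mono ((GH RF i).map a) := hmono
  let p := piComparison (GH RF i) K
  have hp : ∀ (y : (GH RF i).obj L) (n : ℕ), Pi.π (fun n => (GH RF i).obj (K n)) n (p ((GH RF i).map a y)) = (GH RF i).map (a ≫ Pi.π K n) y := by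
    intro y n
    rw [← ConcreteCategory.comp_apply, ← ConcreteCategory.comp_apply, piComparison_comp_π,
      ← Functor.map_comp]
  have h0 : (GH RF i).map a ≫ (GH RF i).map (oneSubG t) = 0 := by
    rw [← Functor.map_comp, show a ≫ oneSubG t = 0 from comp_distTriang_mor_zero₁₂ _ hT, Functor.map_zero]
  refine (ConcreteCategory.isIso_iff_bijective _).2 ⟨(injective_iff_map_eq_zero ((GH RF i).map (a ≫ Pi.π K N)).hom).2
    fun y hy => ?_, fun y => ?_⟩
  · refine (AddCommGrpCat.mono_iff_injective ((GH RF i).map a ≫ p)).1 inferInstance ?_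
    rw [ConcreteCategory.comp_apply, map_zero]
    refine pext _ _ _ fun n => ?_
    rw [map_zero]
    refine QRlimLib.eq_zero_of_compatible N (fun n => ((GH RF i).obj (K n) : Type u))
      (fun n => ((GH RF i).map (t n)).hom)
      (fun n hn => haveI := h₁ n hn; ((ConcreteCategory.isIso_iff_bijective ((GH RF i).map (t n))).1 inferInstance).1)
      (fun n => Pi.π (fun n => (GH RF i).obj (K n)) n (p ((GH RF i).map a y))) (fun n => ?_) ((hp y N).trans hy) n
    refine (hone i _ n).symm.trans ?_
    have e0 : (GH RF i).map (oneSubG t) ((GH RF i).map a y) = 0 := by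
      rw [← ConcreteCategory.comp_apply, h0]
      rfl
    rw [← ConcreteCategory.comp_apply p, ← map_oneSubG]
    refine Eq.trans ?_ ((congrArg (fun v => Pi.π (fun n => (GH RF i).obj (K n)) n (p v)) e0).trans ((congrArg _ (map_zero p.hom)).trans (map_zero (Pi.π (fun n => (GH RF i).obj (K n)) n).hom)))
    rfl
  · obtain ⟨r, hr, hrN⟩ := QRlimLib.exists_compatible N (fun n => ((GH RF i).obj (K n) : Type u))
      (fun n => ((GH RF i).map (t n)).hom)
      (fun n hn => haveI := h₁ n hn; (ConcreteCategory.isIso_iff_bijective ((GH RF i).map (t n))).1 inferInstance) y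
    obtain ⟨z, hz⟩ := pexi _ r
    obtain ⟨z', hz'⟩ := ((ConcreteCategory.isIso_iff_bijective p).1 inferInstance).2 z
    have hz0 : (GH RF i).map (oneSubG t) z' = 0 := by
      refine ((ConcreteCategory.isIso_iff_bijective p).1 inferInstance).1 ?_
      rw [← ConcreteCategory.comp_apply, map_oneSubG, ConcreteCategory.comp_apply, hz', map_zero]
      refine pext _ _ _ fun n => ?_
      rw [hone, hz, hz, map_zero]
      exact hr n
    obtain ⟨k, hk⟩ := (ShortComplex.ab_exact_iff (ShortComplex.mk (kernel.ι ((GH RF i).map (oneSubG t)))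
      ((GH RF i).map (oneSubG t)) (kernel.condition _))).1
      (ShortComplex.exact_of_f_is_kernel _ (kernelIsKernel _)) z' hz0
    obtain ⟨l, hl⟩ := hlift (kernel.ι ((GH RF i).map (oneSubG t))) (kernel.condition _)
    refine ⟨l k, ?_⟩
    rw [← hp]
    refine Eq.trans (congrArg (fun ψ => Pi.π (fun n => (GH RF i).obj (K n)) N (p (ψ k))) hl) ?_
    refine (congrArg (fun v => Pi.π (fun n => (GH RF i).obj (K n)) N (p v)) hk).trans ?_
    rw [hz', hz]
    exact hrN

end Groth.Agent.AlgSpRlimLib
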