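import Groth.Agent.AlgSpRlimLib.Trunc
import Groth.Agent.AlgSpRlimLib.DerAb
import Groth.Agent.AlgSpRlimLib.Amplitude
import Groth.Agent.DerLib.Amplitude
import Groth.Agent.DerLib.KInjEnough

/-!
# Bounded cohomological dimension on quasi-coherent modules of an algebraic space
-/

set_option autoImplicit false
set_option linter.unusedSectionVars false
set_option linter.style.haveILetI false
set_option backward.isDefEq.respectTransparency false
set_option backward.isDefEq.respectTransparency.types false
set_option maxHeartbeats 1000000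
set_option synthInstance.maxHeartbeats 200000

universe u

open CategoryTheory CategoryTheory.Limits AlgebraicGeometry Opposite AlgSp Pretriangulated
open DerivedCategory.TStructure (t)

noncomputable section

attribute [local instance] HasDerivedCategory.standard

namespace Groth.Agent.AlgSpRlimLib

variable {S : Scheme.{u}} {X : Sp S}

theorem enoughKInj_modEt : Groth.Agent.DerLib.KInjDerived.EnoughKInj (ModEt X) :=
  haveI := isGrothendieckAbelian_modEt (X := X)
  Groth.Agent.DerLib.KInjDerived.enoughKInj.{u + 1} (ModEt X)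

theorem isQCohDMod_truncGE {E : DModEt X} (hE : DCoh.IsQCohDMod (OEtRing X) E) (c : ℤ) :
    DCoh.IsQCohDMod (OEtRing X) ((t.truncGE c).obj E) := fun m => by
  by_cases hm : c ≤ m
  · haveI := Groth.Agent.DerLib.Ghost.isIso_homologyMap_truncGEπ E c m hm
    exact ObjectProperty.prop_of_iso (SheafOfModules.isQuasicoherent (OEtRing X))
      (asIso ((DerivedCategory.homologyFunctor (ModEt X) m).map ((t.truncGEπ c).app E))) (hE m)
  · exact isQuasicoherent_of_isZero (DerivedCategory.isZero_of_isGE _ c m (by omega)) (hE m)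

variable {B : Type (u + 2)} [Category.{u + 1} B] [Abelian B]
  (F : ModEt X ⥤ AddCommGrpCat.{u + 1}) [F.Additive] [PreservesLimitsOfShape (Discrete ℕ) F]
  (RF : DModEt X ⥤ DerivedCategory AddCommGrpCat.{u + 1})
  (α : F.mapHomotopyCategory (ComplexShape.up ℤ) ⋙ DerivedCategory.Qh ⟶ DerivedCategory.Qh ⋙ RF)
  [RF.IsRightDerivedFunctor α (HomotopyCategory.quasiIso (ModEt X) (ComplexShape.up ℤ))]
  [EnoughInjectives (ModEt X)] (N : ℕ)
  (hF : ∀ G : ModEt X, G.IsQuasicoherent → ∀ p : ℕ, N ≤ p → IsZero ((F.rightDerived p).obj G))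

include α hF in
/-- Low truncation does not change high cohomology of the derived functor, for bounded below objects. -/
theorem isIso_GH_π_of_isGE (K : DModEt X) (a : ℤ) [K.IsGE a] (hK : DCoh.IsQCohDMod (OEtRing X) K) (c i : ℤ)
    (hi : c - 1 + N ≤ i) : IsIso ((GH RF i).map ((t.truncGEπ c).app K)) := by
  obtain ⟨_, _⟩ := Groth.Agent.DerLib.KInjDerived.exists_isTriangulated_map enoughKInj_modEt F RF α
  have hs : ∀ (M : ModEt X), M.IsQuasicoherent → ∀ j : ℤ, (N : ℤ) ≤ j →
      IsZero ((DerivedCategory.homologyFunctor AddCommGrpCat.{u + 1} j).obj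
        (RF.obj ((DerivedCategory.singleFunctor (ModEt X) 0).obj M))) := fun M hM j hj =>
    isZero_rightDerived_single enoughKInj_modEt F RF α M N (hF M hM) j hj
  have hT := t.triangleLTGE_distinguished c K
  let a' := min a (c - 1)
  have hz : ∀ j, i ≤ j → IsZero ((DerivedCategory.homologyFunctor AddCommGrpCat.{u + 1} j).obj
      (RF.obj ((t.truncLT c).obj K))) := by
    intro j hj
    obtain ⟨k, hk⟩ := Int.le.dest (show a' ≤ c - 1 from min_le_right _ _)
    have h1 : ((t.truncLT c).obj K).IsLE (c - 1) := t.isLE_truncLT_obj K c (c - 1) (by omega)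
    haveI : ((t.truncLT c).obj K).IsLE (a' + k) := by rw [hk]; exact h1
    have hiso : ∀ q, q < c → IsIso ((DerivedCategory.homologyFunctor (ModEt X) q).map ((t.truncLTι c).app K)) :=
      fun q hq => Groth.Agent.DerLib.Ghost.isIso_homologyMap_truncLTι K c q hq
    haveI : ((t.truncLT c).obj K).IsGE a' := by
      rw [DerivedCategory.isGE_iff]
      intro q hq
      haveI := hiso q (by omega)
      exact (DerivedCategory.isZero_of_isGE K a q (by omega)).of_iso
        (asIso ((DerivedCategory.homologyFunctor (ModEt X) q).map ((t.truncLTι c).app K)))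
    refine isZero_homology_of_qcoh_single (SheafOfModules.isQuasicoherent (OEtRing X))
      (fun M N hM hN => isQuasicoherent_of_isZero hN hM) RF N hs a' k _ (fun q => ?_) j (by omega)
    by_cases hq : q < c
    · haveI := hiso q hq
      exact ObjectProperty.prop_of_iso (SheafOfModules.isQuasicoherent (OEtRing X))
        (asIso ((DerivedCategory.homologyFunctor (ModEt X) q).map ((t.truncLTι c).app K))).symm (hK q)
    · haveI := h1
      exact isQuasicoherent_of_isZero (DerivedCategory.isZero_of_isLE _ (c - 1) q (by omega)) (hK q)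
  have hm : Mono ((DerivedCategory.homologyFunctor AddCommGrpCat.{u + 1} i).map (RF.map ((t.truncGEπ c).app K))) :=
    (DerivedCategory.HomologySequence.exact₂ _ (RF.map_distinguished _ hT) i).mono_g
      ((hz i le_rfl).eq_of_src _ _)
  have he : Epi ((DerivedCategory.homologyFunctor AddCommGrpCat.{u + 1} i).map (RF.map ((t.truncGEπ c).app K))) :=
    (DerivedCategory.HomologySequence.exact₃ _ (RF.map_distinguished _ hT) i (i + 1) rfl).epi_f
      ((hz (i + 1) (by omega)).eq_of_tgt _ _)
  exact @isIso_of_mono_of_epi _ _ _ _ _ _ hm he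

include α hF in
/-- A map of bounded below objects iso on high cohomology is iso on high cohomology of the derived functor. -/
theorem isIso_GH_map (K L : DModEt X) (a : ℤ) [K.IsGE a] [L.IsGE a] (hK : DCoh.IsQCohDMod (OEtRing X) K)
    (hL : DCoh.IsQCohDMod (OEtRing X) L) (g : K ⟶ L) (c i : ℤ) (hi : c - 1 + N ≤ i)
    (hg : ∀ q, c ≤ q → IsIso ((DerivedCategory.homologyFunctor (ModEt X) q).map g)) :
    IsIso ((GH RF i).map g) := by
  haveI := isIso_GH_π_of_isGE F RF α N hF K a hK c i hi
  haveI := isIso_GH_π_of_isGE F RF α N hF L a hL c i hi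
  haveI : IsIso ((t.truncGE c).map g) := by
    refine (DerivedCategory.isIso_iff (ModEt X) _).2 fun q => ?_
    by_cases hq : c ≤ q
    · haveI := hg q hq
      haveI := Groth.Agent.DerLib.Ghost.isIso_homologyMap_truncGEπ K c q hq
      haveI := Groth.Agent.DerLib.Ghost.isIso_homologyMap_truncGEπ L c q hq
      refine IsIso.of_isIso_fac_left (f := (DerivedCategory.homologyFunctor (ModEt X) q).map ((t.truncGEπ c).app K))
        (h := (DerivedCategory.homologyFunctor (ModEt X) q).map g ≫
          (DerivedCategory.homologyFunctor (ModEt X) q).map ((t.truncGEπ c).app L)) ?_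
      rw [← Functor.map_comp, ← Functor.map_comp, ← (t.truncGEπ c).naturality g]
      rfl
    · exact ((DerivedCategory.isZero_of_isGE _ c q (by omega))).isIso (DerivedCategory.isZero_of_isGE _ c q (by omega)) _
  have e : (GH RF i).map g ≫ (GH RF i).map ((t.truncGEπ c).app L) =
      (GH RF i).map ((t.truncGEπ c).app K) ≫ (GH RF i).map ((t.truncGE c).map g) := by
    rw [← Functor.map_comp, ← Functor.map_comp]
    exact congrArg (GH RF i).map ((t.truncGEπ c).naturality g)
  haveI : IsIso ((GH RF i).map g ≫ (GH RF i).map ((t.truncGEπ c).app L)) := by rw [e]; infer_instance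
  exact IsIso.of_isIso_comp_right _ ((GH RF i).map ((t.truncGEπ c).app L))

include α hF in
/-- Low truncation does not change high cohomology of the derived functor. -/
theorem isIso_GH_π (E : DModEt X) (hE : DCoh.IsQCohDMod (OEtRing X) E) (c i : ℤ) (hi : c - 1 + N ≤ i) :
    IsIso ((GH RF i).map ((t.truncGEπ c).app E)) := by
  haveI : HasProduct (tr E) := hasProduct_D _
  obtain ⟨δ, hT⟩ := isRlim_trunc hE
  let n : ℕ := ((max (-c) ((N : ℤ) - i + 1)) : ℤ).toNat
  have hstab : ∀ q : ℤ, i - 1 ≤ q → ∀ k, n ≤ k → IsIso ((GH RF q).map (trMap E k)) := fun q hq k hk =>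
    haveI : (tr E k).IsGE (-((k + 1 : ℕ) : ℤ)) := t.isGE_of_ge _ (-((k + 1 : ℕ) : ℤ)) (-(k : ℤ)) (by omega)
    isIso_GH_map F RF α N hF (tr E (k + 1)) (tr E k) (-((k + 1 : ℕ) : ℤ)) (isQCohDMod_tr hE _) (isQCohDMod_tr hE _)
      (trMap E k) (-(k : ℤ)) q (by omega) fun p hp => isIso_H_trMap E k p hp
  have h1 := isIso_GH_rlim F RF α enoughKInj_modEt (tr E) (trMap E) _ δ hT i n
    (hstab (i - 1) le_rfl) (hstab i (by omega))
  rw [Pi.lift_π] at h1
  haveI := h1
  haveI := isIso_GH_π_of_isGE F RF α N hF (tr E n) (-(n : ℤ)) (isQCohDMod_tr hE n) c i hi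
  let π : E ⟶ tr E n := (t.truncGEπ (-(n : ℤ))).app E
  haveI : IsIso ((t.truncGE c).map π) := by
    refine (DerivedCategory.isIso_iff (ModEt X) _).2 fun q => ?_
    by_cases hq : c ≤ q
    · haveI := isIso_H_π E n q (by omega)
      haveI := Groth.Agent.DerLib.Ghost.isIso_homologyMap_truncGEπ E c q hq
      haveI := Groth.Agent.DerLib.Ghost.isIso_homologyMap_truncGEπ (tr E n) c q hq
      refine IsIso.of_isIso_fac_left (f := (DerivedCategory.homologyFunctor (ModEt X) q).map ((t.truncGEπ c).app E))
        (h := (DerivedCategory.homologyFunctor (ModEt X) q).map π ≫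
          (DerivedCategory.homologyFunctor (ModEt X) q).map ((t.truncGEπ c).app (tr E n))) ?_
      rw [← Functor.map_comp, ← Functor.map_comp, ← (t.truncGEπ c).naturality π]
      rfl
    · exact ((DerivedCategory.isZero_of_isGE _ c q (by omega))).isIso (DerivedCategory.isZero_of_isGE _ c q (by omega)) _
  have e : (GH RF i).map ((t.truncGEπ c).app E) ≫ (GH RF i).map ((t.truncGE c).map π) =
      (GH RF i).map π ≫ (GH RF i).map ((t.truncGEπ c).app (tr E n)) := by
    rw [← Functor.map_comp, ← Functor.map_comp]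
    exact congrArg (GH RF i).map ((t.truncGEπ c).naturality π).symm
  haveI : IsIso ((GH RF i).map ((t.truncGEπ c).app E) ≫ (GH RF i).map ((t.truncGE c).map π)) := by
    rw [e]; infer_instance
  exact IsIso.of_isIso_comp_right _ ((GH RF i).map ((t.truncGE c).map π))

end Groth.Agent.AlgSpRlimLib
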