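import Groth.Agent.AlgSpRlimLib.Tower
import Groth.Agent.DerLib.KInjUse
import Mathlib.Algebra.Homology.DerivedCategory.SingleTriangle
import Mathlib.Algebra.Homology.DerivedCategory.ExactFunctor

/-!
# The derived limit of a surjective tower of quasi-coherent modules
-/

set_option autoImplicit false
set_option linter.unusedSectionVars false
set_option linter.style.haveILetI false
set_option backward.isDefEq.respectTransparency false
set_option backward.isDefEq.respectTransparency.types false
set_option maxHeartbeats 1000000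
set_option synthInstance.maxHeartbeats 200000

universe w v' u' u

open CategoryTheory CategoryTheory.Limits CategoryTheory.Abelian AlgebraicGeometry Opposite AlgSp Pretriangulated

noncomputable section

attribute [local instance] HasDerivedCategory.standard

namespace Groth.Agent.AlgSpRlimLib

section Gen

variable {A : Type u'} [Category.{v'} A] [Abelian A] [HasDerivedCategory.{w} A]

/-- A product of K-injective complexes is a product in the derived category. -/
theorem isIso_lift_Q_map {T : Type} {J : T → CochainComplex A ℤ} {P : CochainComplex A ℤ} (p : ∀ t, P ⟶ J t)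
    (hP : IsLimit (Fan.mk P p)) (hJ : ∀ t, (J t).IsKInjective) [HasProduct fun t => DerivedCategory.Q.obj (J t)] :
    IsIso (Pi.lift fun t => DerivedCategory.Q.map (p t)) := by
  haveI : HasProduct J := ⟨⟨⟨_, hP⟩⟩⟩
  let e : P ≅ ∏ᶜ J := hP.conePointUniqueUpToIso (productIsProduct J)
  have he : ∀ t, e.hom ≫ Pi.π J t = p t := fun t => hP.conePointUniqueUpToIso_hom_comp _ ⟨t⟩
  haveI := DerLib.KInjUse.isKInjective_pi J hJ
  haveI := hJ
  suffices h : IsIso (Pi.lift fun t => DerivedCategory.Q.map (Pi.π J t)) by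
    rw [show (Pi.lift fun t => DerivedCategory.Q.map (p t)) =
      DerivedCategory.Q.map e.hom ≫ Pi.lift fun t => DerivedCategory.Q.map (Pi.π J t) from
      Limits.Pi.hom_ext _ _ fun t => by rw [Category.assoc, Pi.lift_π, Pi.lift_π, ← Functor.map_comp, he]]
    infer_instance
  refine isIso_of_yoneda_map_bijective _ fun W => ⟨fun x y hxy => ?_, fun g => ?_⟩
  · let K := DerivedCategory.Q.objPreimage W
    let eW : DerivedCategory.Q.obj K ≅ W := DerivedCategory.Q.objObjPreimageIso W
    obtain ⟨x', hx⟩ := DerLib.KInjUse.Q_map_surjective K (∏ᶜ J) (eW.hom ≫ x)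
    obtain ⟨y', hy⟩ := DerLib.KInjUse.Q_map_surjective K (∏ᶜ J) (eW.hom ≫ y)
    rw [← cancel_epi eW.hom, ← hx, ← hy, ← sub_eq_zero, ← Functor.map_sub]
    refine DerLib.KInjUse.Q_map_zero_of_quotient (DerLib.KInjUse.quotient_eq_zero_of_pi _ fun t =>
      DerLib.KInjUse.quotient_eq_zero_of_Q ?_)
    have h := congrArg (fun z => eW.hom ≫ z ≫ Pi.π _ t) hxy
    simp only [Category.assoc, Pi.lift_π] at h
    rw [Preadditive.sub_comp, Functor.map_sub, Functor.map_comp, Functor.map_comp, hx, hy, Category.assoc,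
      Category.assoc, h, sub_self]
  · let K := DerivedCategory.Q.objPreimage W
    let eW : DerivedCategory.Q.obj K ≅ W := DerivedCategory.Q.objObjPreimageIso W
    choose g' hg' using fun t => DerLib.KInjUse.Q_map_surjective K (J t) (eW.hom ≫ g ≫ Pi.π _ t)
    refine ⟨eW.inv ≫ DerivedCategory.Q.map (Pi.lift g'), Limits.Pi.hom_ext _ _ fun t => ?_⟩
    simp only [Category.assoc, Pi.lift_π]
    rw [← Functor.map_comp, Pi.lift_π, hg', Iso.inv_hom_id_assoc]

/-- A module in degree zero and its injective resolution. -/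
def resIso {Y : A} (R : InjectiveResolution Y) :
    (DerivedCategory.singleFunctor A 0).obj Y ≅ DerivedCategory.Q.obj R.cochainComplex :=
  (DerivedCategory.singleFunctorIsoCompQ A 0).app Y ≪≫ asIso (DerivedCategory.Q.map R.ι')

theorem resIso_natural {Y Y' : A} {f : Y ⟶ Y'} {R : InjectiveResolution Y} {R' : InjectiveResolution Y'}
    (φ : InjectiveResolution.Hom R R' f) :
    (DerivedCategory.singleFunctor A 0).map f ≫ (resIso R').hom = (resIso R).hom ≫ DerivedCategory.Q.map φ.hom' := by
  simp only [resIso, Iso.trans_hom, Iso.app_hom, asIso_hom, Category.assoc]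
  rw [← Functor.map_comp, InjectiveResolution.Hom.ι'_comp_hom', Functor.map_comp]
  exact ((DerivedCategory.singleFunctorIsoCompQ A 0).hom.naturality_assoc f _)

end Gen

variable {S : Scheme.{u}} {X : Sp S} {M : ℕ → ModEt X}

theorem isIso_single_piComparison (hA : ∀ n, MAcyclic (M n))
    [HasProduct fun n : ℕ => DCoh.inDMod (OEtRing X) (M n)] :
    IsIso (Pi.lift (f := fun n : ℕ => DCoh.inDMod (OEtRing X) (M n))
      fun n => (DerivedCategory.singleFunctor (ModEt X) 0).map (Pi.π M n)) := by
  haveI : EnoughInjectives (ModEt X) := ModEtInjLib.enoughInjectives_sheaf (OEtRing X)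
  let I := fun n => InjectiveResolution.of (M n)
  haveI : HasProduct fun n => DerivedCategory.Q.obj (I n).cochainComplex :=
    hasLimit_of_iso (F := Discrete.functor fun n => DCoh.inDMod (OEtRing X) (M n))
      (Discrete.natIso fun ⟨n⟩ => resIso (I n))
  obtain ⟨hlim⟩ := nonempty_isLimit_fan I hA
  haveI := isIso_lift_Q_map _ hlim (fun n => CochainComplex.isKInjective_of_injective _ 0)
  have e : (Pi.lift fun n => (DerivedCategory.singleFunctor (ModEt X) 0).map (Pi.π M n)) ≫
        Limits.Pi.map (fun n => (resIso (I n)).hom) =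
      (resIso (prodRes I hA)).hom ≫ Pi.lift fun n => DerivedCategory.Q.map (prodHom I hA n).hom' := by
    refine Limits.Pi.hom_ext _ _ fun n => ?_
    rw [Category.assoc, Pi.map_π, Pi.lift_π_assoc, Category.assoc, Pi.lift_π]
    exact resIso_natural (prodHom I hA n)
  haveI : IsIso (Limits.Pi.map fun n => (resIso (I n)).hom) :=
    ⟨Limits.Pi.map fun n => (resIso (I n)).inv, Limits.Pi.hom_ext _ _ fun n => by
      simp only [Category.assoc, Pi.map_π, Pi.map_π_assoc, Iso.hom_inv_id, Category.comp_id, Category.id_comp],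
      Limits.Pi.hom_ext _ _ fun n => by
      simp only [Category.assoc, Pi.map_π, Pi.map_π_assoc, Iso.inv_hom_id, Category.comp_id, Category.id_comp]⟩
  exact IsIso.of_isIso_fac_right e

variable (t : ∀ n, M (n + 1) ⟶ M n)

theorem isRlim_single_limit (hM : ∀ n, (M n).IsQuasicoherent) (ht : ∀ n, Epi (t n))
    [HasProduct fun n : ℕ => DCoh.inDMod (OEtRing X) (M n)] :
    ∃ c : (∏ᶜ fun n : ℕ => DCoh.inDMod (OEtRing X) (M n)) ⟶
        (DCoh.inDMod (OEtRing X) (limit (Functor.ofOpSequence t)))⟦(1 : ℤ)⟧,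
      Triangle.mk
        (Pi.lift (f := fun n : ℕ => DCoh.inDMod (OEtRing X) (M n))
          fun n : ℕ => (DerivedCategory.singleFunctor (ModEt X) 0).map
            (limit.π (Functor.ofOpSequence t) (Opposite.op n)))
        (Pi.lift fun n : ℕ => Pi.π (fun n : ℕ => DCoh.inDMod (OEtRing X) (M n)) n -
          Pi.π (fun n : ℕ => DCoh.inDMod (OEtRing X) (M n)) (n + 1) ≫
            (DerivedCategory.singleFunctor (ModEt X) 0).map (t n))
        c ∈ distinguishedTriangles := by
  haveI := isIso_single_piComparison (X := X) fun n => haveI := hM n; mAcyclic_of_qcoh (M n)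
  let F := DerivedCategory.singleFunctor (ModEt X) 0
  let k : F.obj (∏ᶜ M) ⟶ ∏ᶜ fun n => DCoh.inDMod (OEtRing X) (M n) := Pi.lift fun n => F.map (Pi.π M n)
  have hS := shortExact_limSC t hM ht
  let T₀ : Triangle (DCoh.DMod (OEtRing X)) := Triangle.mk (F.map (limι t)) (F.map (oneSub t)) hS.singleδ
  have hT₀ : T₀ ∈ distinguishedTriangles := hS.singleTriangle_distinguished
  refine ⟨inv k ≫ hS.singleδ, isomorphic_distinguished _ hT₀ _ (Iso.symm ?_)⟩
  refine Triangle.isoMk _ _ (Iso.refl _) (asIso k) (asIso k) ?_ ?_ ?_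
  · refine Limits.Pi.hom_ext _ _ fun n => ?_
    show (F.map (limι t) ≫ k) ≫ Pi.π (fun n => DCoh.inDMod (OEtRing X) (M n)) n = (𝟙 _ ≫ Pi.lift (f := fun n => DCoh.inDMod (OEtRing X) (M n))
      fun n => F.map (limit.π (Functor.ofOpSequence t) (op n))) ≫ Pi.π (fun n => DCoh.inDMod (OEtRing X) (M n)) n
    simp only [k, Category.id_comp, Category.assoc, Pi.lift_π]
    rw [← Functor.map_comp, limι_π]
  · refine Limits.Pi.hom_ext _ _ fun n => ?_
    show (F.map (oneSub t) ≫ k) ≫ Pi.π (fun n => DCoh.inDMod (OEtRing X) (M n)) n = (k ≫ Pi.lift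
      fun n : ℕ => Pi.π (fun n => DCoh.inDMod (OEtRing X) (M n)) n - Pi.π (fun n => DCoh.inDMod (OEtRing X) (M n)) (n + 1) ≫ F.map (t n)) ≫ Pi.π (fun n => DCoh.inDMod (OEtRing X) (M n)) n
    simp only [k, Category.assoc, Pi.lift_π]
    rw [Preadditive.comp_sub, Pi.lift_π, Pi.lift_π_assoc, ← Functor.map_comp, ← Functor.map_comp, ← Functor.map_sub]
    refine congrArg F.map ?_
    exact Pi.lift_π (fun n => Pi.π M n - Pi.π M (n + 1) ≫ t n) n
  · show hS.singleδ ≫ (𝟙 _)⟦(1 : ℤ)⟧' = k ≫ inv k ≫ hS.singleδ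
    simp

theorem subsingleton_HEtDOn_limit (hM : ∀ n, (M n).IsQuasicoherent) (ht : ∀ n, Epi (t n))
    (U : EtOver X) (hU : IsAffine U.obj.left.left) (p : ℤ) (hp : 0 < p) :
    Subsingleton (HEtDOn U (DCoh.inDMod (OEtRing X) (limit (Functor.ofOpSequence t))) p) := by
  haveI : HasExt.{u + 2} (ModEtOn U) := HasExt.standard _
  obtain ⟨q, rfl⟩ : ∃ q : ℕ, p = ((q + 1 : ℕ) : ℤ) := ⟨(p - 1).toNat, by omega⟩
  haveI := subsingleton_ext_limit t hM ht U hU q
  let e := (shiftFunctor (DCoh.DMod (OEtOn U)) ((q + 1 : ℕ) : ℤ)).mapIso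
    (((resModEt U).mapDerivedCategorySingleFunctor 0).app (limit (Functor.ofOpSequence t)))
  exact ((e.homToEquiv).trans (Ext.homEquiv (X := SheafOfModules.unit (OEtOn U))
    (Y := (resModEt U).obj (limit (Functor.ofOpSequence t))) (n := q + 1)).symm).subsingleton

end Groth.Agent.AlgSpRlimLib
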