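import Groth.Agent.EpsLib.SingleCech
import Groth.Agent.ModEtInjLib.Basic

/-!
# Čech exactness of injective presheaves of modules
-/

set_option autoImplicit false
set_option linter.style.haveILetI false
set_option backward.isDefEq.respectTransparency false
set_option backward.isDefEq.respectTransparency.types false
set_option maxHeartbeats 1000000

universe u

open CategoryTheory CategoryTheory.Limits Opposite

noncomputable section

namespace Groth.Agent.AlgSpRlimLib

open ModEtInjLib

variable {C : Type (u + 1)} [Category.{u} C] {R : Cᵒᵖ ⥤ RingCat.{u + 1}}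

theorem freeAtDesc_single {M : PresheafOfModules.{u + 1} R} (X : Cᵒᵖ) (m : M.obj X) {Y : Cᵒᵖ} (g : X ⟶ Y)
    (r : R.obj Y) : (freeAtDesc R X m).app Y (ULift.up (Finsupp.single g r)) = r • (M.map g m : M.obj Y) :=
  Finsupp.linearCombination_single _ _ _

theorem freeAt_map_single (X : Cᵒᵖ) {Y Z : Cᵒᵖ} (g : Y ⟶ Z) (f : X ⟶ Y) :
    (freeAt R X).map g (ULift.up (Finsupp.single f 1)) = ULift.up (Finsupp.single (f ≫ g) 1) := by
  apply ULift.ext
  show Finsupp.mapDomain (fun f => f ≫ g) ((Finsupp.single f (1 : R.obj Y)).mapRange (R.map g) _) = _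
  rw [Finsupp.mapRange_single, Finsupp.mapDomain_single, map_one]

variable (R)
variable {W' W : C} {π : W' ⟶ W} (N : EpsLib.Nerve π)

/-- The free module on a power. -/
abbrev QR (n : ℕ) : PresheafOfModules.{u + 1} R := freeAt R (op (N.obj n))

/-- A generator. -/
def genR {n : ℕ} {V : C} (x : V ⟶ N.obj n) : (QR R N n).obj (op V) :=
  ULift.up (Finsupp.single x.op 1)

/-- The map of free abelian presheaves to the free modules. -/
def iota (n : ℕ) (V : C) : (EpsLib.Q N n).obj (op V) →+ ((QR R N n).obj (op V) : Type (u + 1)) :=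
  FreeAbelianGroup.lift fun x => genR R N x.down

theorem iota_gen {n : ℕ} {V : C} (x : V ⟶ N.obj n) : iota R N n V (EpsLib.gen N x) = genR R N x :=
  FreeAbelianGroup.lift_apply_of _ _

/-- The boundary. -/
def bdR (n : ℕ) : QR R N (n + 1) ⟶ QR R N n :=
  ∑ i : Fin (n + 2), ((-1 : ℤ) ^ (i : ℕ)) • freeAtDesc R (op (N.obj (n + 1))) (genR R N (N.face n i))

theorem bdR_genR (n : ℕ) {V : C} (x : V ⟶ N.obj (n + 1)) :
    (bdR R N n).app (op V) (genR R N x) = ∑ i : Fin (n + 2), ((-1 : ℤ) ^ (i : ℕ)) • genR R N (x ≫ N.face n i) := by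
  let ev : (QR R N (n + 1) ⟶ QR R N n) →+ ((QR R N n).obj (op V) : Type (u + 1)) :=
    AddMonoidHom.mk' (fun φ => φ.app (op V) (genR R N x)) fun _ _ => rfl
  show ev _ = _
  rw [bdR, map_sum]
  refine Finset.sum_congr rfl fun i _ => ?_
  rw [map_zsmul]
  refine congrArg (((-1 : ℤ) ^ (i : ℕ)) • ·) ?_
  show (freeAtDesc R _ _).app (op V) (ULift.up (Finsupp.single x.op 1)) = _
  rw [freeAtDesc_single, one_smul]
  exact freeAt_map_single _ x.op (N.face n i).op

theorem bdR_iota (n : ℕ) {V : C} (z : (EpsLib.Q N (n + 1)).obj (op V)) :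
    (bdR R N n).app (op V) (iota R N (n + 1) V z) = iota R N n V ((EpsLib.bd N n).app (op V) z) := by
  have e : ((bdR R N n).app (op V)).hom.toAddMonoidHom.comp (iota R N (n + 1) V) =
      (iota R N n V).comp ((EpsLib.bd N n).app (op V)).hom := by
    refine FreeAbelianGroup.lift_ext _ _ fun x => ?_
    obtain ⟨x⟩ := x
    show (bdR R N n).app (op V) (iota R N (n + 1) V (EpsLib.gen N x)) =
      iota R N n V ((EpsLib.bd N n).app (op V) (EpsLib.gen N x))
    rw [iota_gen, bdR_genR, EpsLib.bd_gen, map_sum]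
    exact Finset.sum_congr rfl fun i _ => by rw [map_zsmul, iota_gen]
  exact DFunLike.congr_fun e z

section Homotopy

variable {V : C} (s : (V ⟶ W) → (V ⟶ W')) (hs : ∀ a : V ⟶ W', s (a ≫ π) ≫ π = a ≫ π)

/-- The linear contracting homotopy. -/
def homR (n : ℕ) : ((QR R N n).obj (op V) : Type (u + 1)) →ₗ[R.obj (op V)] ((QR R N (n + 1)).obj (op V) : Type (u + 1)) :=
  (Finsupp.linearCombination (R.obj (op V)) fun f : op (N.obj n) ⟶ op V =>
    genR R N (EpsLib.prep N s hs n f.unop)).comp ULift.moduleEquiv.toLinearMap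

theorem homR_genR (n : ℕ) (x : V ⟶ N.obj n) : homR R N s hs n (genR R N x) = genR R N (EpsLib.prep N s hs n x) :=
  (Finsupp.linearCombination_single _ _ _).trans (one_smul _ _)

theorem homR_iota (n : ℕ) (z : (EpsLib.Q N n).obj (op V)) :
    homR R N s hs n (iota R N n V z) = iota R N (n + 1) V (EpsLib.hom' N s hs n z) := by
  have e : (homR R N s hs n).toAddMonoidHom.comp (iota R N n V) =
      (iota R N (n + 1) V).comp (EpsLib.hom' N s hs n) := by
    refine FreeAbelianGroup.lift_ext _ _ fun x => ?_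
    obtain ⟨x⟩ := x
    show homR R N s hs n (iota R N n V (EpsLib.gen N x)) = iota R N (n + 1) V (EpsLib.hom' N s hs n (EpsLib.gen N x))
    rw [iota_gen, homR_genR, EpsLib.hom'_gen, iota_gen]
  exact DFunLike.congr_fun e z

theorem bdR_homR (n : ℕ) (z : (QR R N (n + 1)).obj (op V)) :
    (bdR R N (n + 1)).app (op V) (homR R N s hs (n + 1) z) =
      z - homR R N s hs n ((bdR R N n).app (op V) z) := by
  obtain ⟨z⟩ := z
  induction z using Finsupp.induction_linear with
  | zero =>
    rw [show (ULift.up (0 : (op (N.obj (n + 1)) ⟶ op V) →₀ R.obj (op V))) = (0 : (QR R N (n + 1)).obj (op V)) from rfl]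
    simp
  | add a b ha hb =>
    rw [show (ULift.up (a + b)) = ((ULift.up a : (QR R N (n + 1)).obj (op V)) + ULift.up b) from rfl]
    rw [map_add, map_add, map_add, map_add, ha, hb, add_sub_add_comm]
  | single f r =>
    rw [show (ULift.up (Finsupp.single f r)) = r • (iota R N (n + 1) V (EpsLib.gen N f.unop)) by
      rw [iota_gen]
      exact ULift.ext _ _ (Finsupp.smul_single_one f r).symm]
    rw [map_smul, map_smul, map_smul, map_smul, homR_iota, bdR_iota, bdR_iota, homR_iota, EpsLib.bd_hom',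
      map_sub, smul_sub]

end Homotopy

theorem exists_bdR_eq (n : ℕ) {V : C} (z : (QR R N (n + 1)).obj (op V)) (hz : (bdR R N n).app (op V) z = 0) :
    ∃ w, (bdR R N (n + 1)).app (op V) w = z := by
  rcases isEmpty_or_nonempty (V ⟶ W') with h | ⟨⟨a₀⟩⟩
  · haveI : IsEmpty (op (N.obj (n + 1)) ⟶ op V) := ⟨fun x => h.elim (x.unop ≫ N.pr _ 0)⟩
    haveI : Subsingleton ((QR R N (n + 1)).obj (op V)) :=
      inferInstanceAs (Subsingleton (ULift.{u + 1} ((op (N.obj (n + 1)) ⟶ op V) →₀ R.obj (op V))))
    exact ⟨0, Subsingleton.elim _ _⟩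
  · obtain ⟨s, hs, -⟩ := EpsLib.exists_section_choice (π := π) V a₀
    exact ⟨homR R N s hs (n + 1) z, by rw [bdR_homR, hz, map_zero, sub_zero]⟩

variable {R}

theorem freeAt_hom_ext {M : PresheafOfModules.{u + 1} R} {X : Cᵒᵖ} {f g : freeAt R X ⟶ M}
    (h : f.app X (ULift.up (Finsupp.single (𝟙 X) 1)) = g.app X (ULift.up (Finsupp.single (𝟙 X) 1))) : f = g := by
  refine PresheafOfModules.hom_ext fun Y => ?_
  ext z
  obtain ⟨z⟩ := z
  induction z using Finsupp.induction_linear with
  | zero => exact (map_zero (f.app Y).hom).trans (map_zero (g.app Y).hom).symm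
  | add a b ha hb =>
    exact ((map_add (f.app Y).hom _ _).trans (congrArg₂ (· + ·) ha hb)).trans (map_add (g.app Y).hom _ _).symm
  | single k r =>
    have e : (ULift.up (Finsupp.single k r) : (freeAt R X).obj Y) =
        r • (freeAt R X).map k (ULift.up (Finsupp.single (𝟙 X) 1)) := by
      rw [freeAt_map_single, Category.id_comp]
      exact ULift.ext _ _ (Finsupp.smul_single_one k r).symm
    rw [e]
    exact ((map_smul (f.app Y).hom _ _).trans (congrArg (r • ·) ((PresheafOfModules.naturality_apply f k _).trans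
      ((congrArg (M.map k) h).trans (PresheafOfModules.naturality_apply g k _).symm)))).trans
      (map_smul (g.app Y).hom _ _).symm

theorem el_bdR {n : ℕ} {P : PresheafOfModules.{u + 1} R} (φ : QR R N n ⟶ P) :
    φ.app (op (N.obj (n + 1))) ((bdR R N n).app (op (N.obj (n + 1))) (genR R N (𝟙 _))) =
      EpsLib.cechD N P.presheaf n (φ.app (op (N.obj n)) (genR R N (𝟙 _))) := by
  rw [bdR_genR, map_sum, EpsLib.cechD_apply]
  refine Finset.sum_congr rfl fun i _ => ?_
  rw [map_zsmul, Category.id_comp]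
  refine congrArg (((-1 : ℤ) ^ (i : ℕ)) • ·) ?_
  refine Eq.trans ?_ (PresheafOfModules.naturality_apply φ (N.face n i).op (genR R N (𝟙 _)))
  refine congrArg (φ.app _) ?_
  exact ((freeAt_map_single _ (N.face n i).op (𝟙 _)).trans
    (congrArg (fun m => ULift.up (Finsupp.single m 1)) (Category.id_comp _))).symm

/-- The Čech complexes of an injective presheaf of modules are exact. -/
theorem hExact_of_injective_mod (P : PresheafOfModules.{u + 1} R) [Injective P] (n : ℕ) :
    EpsLib.HExact N P.presheaf n := by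
  intro x hx
  let φ : QR R N (n + 1) ⟶ P := freeAtDesc R (op (N.obj (n + 1))) x
  have hφ : φ.app (op (N.obj (n + 1))) (genR R N (𝟙 _)) = x := freeAtDesc_app R _ x
  have h0 : bdR R N (n + 1) ≫ φ = 0 := by
    refine freeAt_hom_ext ?_
    show φ.app _ ((bdR R N (n + 1)).app _ (genR R N (𝟙 _))) = 0
    rw [el_bdR, hφ, hx]
  have h1 : kernel.ι (bdR R N n) ≫ φ = 0 := by
    refine PresheafOfModules.hom_ext fun V => ?_
    ext z
    have hz : (bdR R N n).app V ((kernel.ι (bdR R N n)).app V z) = 0 :=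
      ConcreteCategory.congr_hom (congr_arg (fun k => k.app V) (kernel.condition (bdR R N n))) z
    obtain ⟨w, hw⟩ := exists_bdR_eq R N n (V := V.unop) _ hz
    show φ.app V ((kernel.ι (bdR R N n)).app V z) = 0
    rw [← hw]
    exact ConcreteCategory.congr_hom (congr_arg (fun k => k.app V) h0) w
  let g : Abelian.coimage (bdR R N n) ⟶ P := cokernel.desc (kernel.ι (bdR R N n)) φ h1
  let ψ := Injective.factorThru g (Abelian.factorThruCoimage (bdR R N n))
  refine ⟨ψ.app _ (genR R N (𝟙 _)), ?_⟩
  rw [← el_bdR]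
  have e : bdR R N n ≫ ψ = φ := by
    refine (congrArg (· ≫ ψ) (Abelian.coimage.fac (bdR R N n)).symm).trans ?_
    rw [Category.assoc, Injective.comp_factorThru]
    exact cokernel.π_desc _ _ _
  exact (ConcreteCategory.congr_hom (congrArg (fun k => k.app _) e) _).trans hφ

end Groth.Agent.AlgSpRlimLib
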