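import Groth.Agent.AlgSpRlimLib.Acyclic
import Mathlib.CategoryTheory.Abelian.Injective.Extend
import Mathlib.Algebra.Homology.HomologicalComplexLimits
import Mathlib.Algebra.Homology.QuasiIso

/-!
# Products of injective resolutions of modules acyclic on affine objects
-/

set_option autoImplicit false
set_option linter.unusedSectionVars false
set_option linter.style.haveILetI false
set_option backward.isDefEq.respectTransparency false
set_option backward.isDefEq.respectTransparency.types false
set_option maxHeartbeats 1000000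
set_option synthInstance.maxHeartbeats 200000

universe w v' u' u

open CategoryTheory CategoryTheory.Limits AlgebraicGeometry Opposite AlgSp
open Groth.Agent Groth.Agent.EtShLib

noncomputable section

namespace Groth.Agent.AlgSpRlimLib

open ModEtQc

section Gen

variable {A : Type u'} [Category.{v'} A] {T : Type} (G : A ⥤ Type w) [PreservesLimitsOfShape (Discrete T) G]
  (f : T → A) [HasProduct f]

theorem prod_sec_ext (x y : G.obj (∏ᶜ f)) (h : ∀ t, G.map (Pi.π f t) x = G.map (Pi.π f t) y) : x = y :=
  Concrete.isLimit_ext _ (isLimitFanMkObjOfIsLimit G f _ (productIsProduct f)) x y fun t => h t.as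

theorem prod_sec_exists (x : ∀ t, G.obj (f t)) : ∃ y : G.obj (∏ᶜ f), ∀ t, G.map (Pi.π f t) y = x t := by
  let hc := isLimitFanMkObjOfIsLimit G f _ (productIsProduct f)
  refine ⟨(Types.isLimitEquivSections hc).symm ⟨fun t => x t.as, ?_⟩, fun t => ?_⟩
  · rintro ⟨i⟩ ⟨j⟩ ⟨⟨h⟩⟩
    obtain rfl : i = j := h
    rfl
  · exact Types.isLimitEquivSections_symm_apply hc _ ⟨t⟩

end Gen

variable {S : Scheme.{u}} {X : Sp S}

/-- Sections over an object, as a functor to types. -/
abbrev secT (E : EtOver X) : ModEt X ⥤ Type (u + 1) :=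
  SheafOfModules.evaluation (OEtRing X) (op E) ⋙ forget _

instance (E : EtOver X) : PreservesLimitsOfShape (Discrete ℕ) (secT E) :=
  comp_preservesLimitsOfShape _ _

variable {M : ℕ → ModEt X}

theorem appS_comp' {A B C : ModEt X} (f : A ⟶ B) (g : B ⟶ C) (E : EtOver X) (x : sec A E) :
    appS (f ≫ g) E x = appS g E (appS f E x) := rfl

theorem pi_sec_ext (E : EtOver X) (x y : sec (∏ᶜ M) E) (h : ∀ n, appS (Pi.π M n) E x = appS (Pi.π M n) E y) : x = y :=
  prod_sec_ext (secT E) M x y h

theorem pi_sec_exists (E : EtOver X) (x : ∀ n, sec (M n) E) : ∃ y : sec (∏ᶜ M) E, ∀ n, appS (Pi.π M n) E y = x n :=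
  prod_sec_exists (secT E) M x

theorem appS_map_π {N : ℕ → ModEt X} (f : ∀ n, M n ⟶ N n) (E : EtOver X) (x : sec (∏ᶜ M) E) (n : ℕ) :
    appS (Pi.π N n) E (appS (Limits.Pi.map f) E x) = appS (f n) E (appS (Pi.π M n) E x) := by
  rw [← appS_comp', Pi.map_π, appS_comp']

variable (I : ∀ n, InjectiveResolution (M n))

/-- The product of injective resolutions. -/
def prodCx : CochainComplex (ModEt X) ℕ where
  X k := ∏ᶜ fun n => (I n).cocomplex.X k
  d i j := Limits.Pi.map fun n => (I n).cocomplex.d i j
  shape i j h := Limits.Pi.hom_ext _ _ fun n => by rw [Pi.map_π, (I n).cocomplex.shape i j h, comp_zero, zero_comp]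
  d_comp_d' i j k _ _ := Limits.Pi.hom_ext _ _ fun n => by
    rw [Category.assoc, Pi.map_π, Pi.map_π_assoc, (I n).cocomplex.d_comp_d, comp_zero, zero_comp]

/-- The augmentation. -/
def prodAug : (∏ᶜ M) ⟶ (prodCx I).X 0 := Limits.Pi.map fun n => (I n).ι.f 0

theorem prodAug_d : prodAug I ≫ (prodCx I).d 0 1 = 0 := Limits.Pi.hom_ext _ _ fun n => by
  refine (Category.assoc _ _ _).trans ?_
  dsimp only [prodAug, prodCx]
  rw [Pi.map_π, Pi.map_π_assoc, InjectiveResolution.ι_f_zero_comp_complex_d, comp_zero, zero_comp]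

theorem exactAt_prodCx (h : ∀ n, MAcyclic (M n)) (k : ℕ) : (prodCx I).ExactAt (k + 1) := by
  rw [HomologicalComplex.exactAt_iff' (prodCx I) k (k + 1) (k + 2) (by simp) (by simp)]
  refine exact_of_affine _ fun E hE x hx => ?_
  have hn : ∀ n, ∃ y, appS ((I n).cocomplex.d k (k + 1)) E y =
      appS (Pi.π (fun n => (I n).cocomplex.X (k + 1)) n) E x := fun n => by
    refine sec_exact_resolution (h n) (I n) k E hE _ ?_
    rw [← appS_map_π (fun n => (I n).cocomplex.d (k + 1) (k + 2)) E x n]
    exact (congrArg _ hx).trans (map_zero _)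
  choose y hy using hn
  obtain ⟨z, hz⟩ := pi_sec_exists E y
  refine ⟨z, pi_sec_ext E _ _ fun n => ?_⟩
  exact (appS_map_π (fun n => (I n).cocomplex.d k (k + 1)) E z n).trans ((congrArg _ (hz n)).trans (hy n))

theorem mono_prodAug : Mono (prodAug I) := Pi.map_mono _

theorem exact_prodAug : (ShortComplex.mk (prodAug I) ((prodCx I).d 0 1) (prodAug_d I)).Exact := by
  refine exact_of_affine _ fun E hE x hx => ?_
  have hn : ∀ n, ∃ y, appS ((I n).ι.f 0) E y = appS (Pi.π (fun n => (I n).cocomplex.X 0) n) E x := fun n => by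
    haveI : Mono ((I n).ι.f 0) := inferInstance
    refine (exact_appS (T := ShortComplex.mk ((I n).ι.f 0) ((I n).cocomplex.d 0 1)
      (InjectiveResolution.ι_f_zero_comp_complex_d _)) (InjectiveResolution.exact₀ (I n)) E _).1 ?_
    show appS ((I n).cocomplex.d 0 1) E _ = 0
    rw [← appS_map_π (fun n => (I n).cocomplex.d 0 1) E x n]
    exact (congrArg _ hx).trans (map_zero _)
  choose y hy using hn
  obtain ⟨z, hz⟩ := pi_sec_exists E y
  exact ⟨z, pi_sec_ext E _ _ fun n => (appS_map_π (fun n => (I n).ι.f 0) E z n).trans ((congrArg _ (hz n)).trans (hy n))⟩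

/-- The augmentation as a morphism of complexes. -/
def prodι : (CochainComplex.single₀ (ModEt X)).obj (∏ᶜ M) ⟶ prodCx I :=
  (CochainComplex.fromSingle₀Equiv (prodCx I) (∏ᶜ M)).symm ⟨prodAug I, prodAug_d I⟩

theorem prodι_f_zero : (prodι I).f 0 = prodAug I := by
  simp [prodι]

theorem quasiIso_prodι (h : ∀ n, MAcyclic (M n)) : QuasiIso (prodι I) := ⟨fun k => by
  cases k
  · rw [CochainComplex.quasiIsoAt₀_iff, ShortComplex.quasiIso_iff_of_zeros]
    · refine (ShortComplex.exact_and_mono_f_iff_of_iso ?_).2 ⟨exact_prodAug I, mono_prodAug I⟩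
      exact ShortComplex.isoMk (Iso.refl _) (Iso.refl _) (Iso.refl _) (by simp [prodι_f_zero]) (by simp)
    all_goals first | rfl | exact (prodCx I).shape _ _ (by simp)
  · rw [quasiIsoAt_iff_exactAt]
    · exact exactAt_prodCx I h _
    · apply CochainComplex.exactAt_succ_single_obj⟩

/-- The product of injective resolutions of modules acyclic on affine objects resolves the product. -/
def prodRes (h : ∀ n, MAcyclic (M n)) : InjectiveResolution (∏ᶜ M) where
  cocomplex := prodCx I
  injective k := inferInstanceAs (Injective (∏ᶜ fun n => (I n).cocomplex.X k))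
  ι := prodι I
  quasiIso := quasiIso_prodι I h

/-- Sections over affine objects of the product resolution are exact in positive degrees. -/
theorem sec_exact_prodCx (h : ∀ n, MAcyclic (M n)) (k : ℕ) (E : EtOver X) (hE : IsAffine E.obj.left.left)
    (x : sec ((prodCx I).X (k + 1)) E) (hx : appS ((prodCx I).d (k + 1) (k + 2)) E x = 0) :
    ∃ y, appS ((prodCx I).d k (k + 1)) E y = x := by
  have hn : ∀ n, ∃ y, appS ((I n).cocomplex.d k (k + 1)) E y =
      appS (Pi.π (fun n => (I n).cocomplex.X (k + 1)) n) E x := fun n => by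
    refine sec_exact_resolution (h n) (I n) k E hE _ ?_
    rw [← appS_map_π (fun n => (I n).cocomplex.d (k + 1) (k + 2)) E x n]
    exact (congrArg _ hx).trans (map_zero _)
  choose y hy using hn
  obtain ⟨z, hz⟩ := pi_sec_exists E y
  refine ⟨z, pi_sec_ext E _ _ fun n => ?_⟩
  exact (appS_map_π (fun n => (I n).cocomplex.d k (k + 1)) E z n).trans ((congrArg _ (hz n)).trans (hy n))

/-- The projections of the product resolution. -/
def prodHom (h : ∀ n, MAcyclic (M n)) (n : ℕ) : InjectiveResolution.Hom (prodRes I h) (I n) (Pi.π M n) where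
  hom :=
    { f := fun k => Pi.π (fun n => (I n).cocomplex.X k) n
      comm' := fun i j _ => (Pi.map_π (fun n => (I n).cocomplex.d i j) n).symm }
  ι_f_zero_comp_hom_f_zero := by
    show (prodι I).f 0 ≫ Pi.π (fun n => (I n).cocomplex.X 0) n = _
    rw [prodι_f_zero]
    exact (Pi.map_π _ n).trans (by simp)

theorem nonempty_isLimit_fan (h : ∀ n, MAcyclic (M n)) :
    Nonempty (IsLimit (Fan.mk (prodRes I h).cochainComplex fun n => (prodHom I h n).hom' :
      Fan fun n => (I n).cochainComplex)) := by
  refine ⟨HomologicalComplex.isLimitOfEval _ _ fun i => ?_⟩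
  refine (isLimitMapConeFanMkEquiv (HomologicalComplex.eval _ _ i) (fun n => (I n).cochainComplex)
    fun n => (prodHom I h n).hom').symm ?_
  show IsLimit (Fan.mk ((prodRes I h).cochainComplex.X i) fun n => (prodHom I h n).hom'.f i :
    Fan fun n => (I n).cochainComplex.X i)
  by_cases hi : 0 ≤ i
  · refine mkFanLimit _ (fun s => Pi.lift (fun n => s.proj n ≫ ((I n).cochainComplexXIso i i.toNat (by omega)).hom) ≫
      ((prodRes I h).cochainComplexXIso i i.toNat (by omega)).inv) (fun s n => ?_) (fun s m hm => ?_)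
    · show _ ≫ (prodHom I h n).hom'.f i = _
      rw [InjectiveResolution.Hom.hom'_f _ i i.toNat (by omega), Category.assoc, Iso.inv_hom_id_assoc]
      show Pi.lift _ ≫ Pi.π (fun n => (I n).cocomplex.X i.toNat) n ≫ _ = _
      rw [Pi.lift_π_assoc, Category.assoc, Iso.hom_inv_id, Category.comp_id]
    · rw [← cancel_mono ((prodRes I h).cochainComplexXIso i i.toNat (by omega)).hom, Category.assoc, Iso.inv_hom_id]
      refine Limits.Pi.hom_ext _ _ fun n => ?_
      simp only [Category.comp_id, Pi.lift_π]
      rw [← hm n]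
      show _ = (m ≫ (prodHom I h n).hom'.f i) ≫ _
      rw [InjectiveResolution.Hom.hom'_f _ i i.toNat (by omega)]
      simp only [Category.assoc, Iso.inv_hom_id, Category.comp_id]
      rfl
  · have hz : ∀ {Y : ModEt X} (R : InjectiveResolution Y), IsZero (R.cochainComplex.X i) := fun R =>
      CochainComplex.isZero_of_isStrictlyGE _ 0 _ (by omega)
    exact mkFanLimit _ (fun s => 0) (fun s n => (hz (I n)).eq_of_tgt _ _) (fun s m _ => (hz _).eq_of_tgt _ _)

end Groth.Agent.AlgSpRlimLib
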