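import Groth.Agent.AlgSpRlimLib.UnboundedExact
import Groth.Agent.ModEtQcLib.AssPush
import Groth.Agent.AlgSpRegLib.GlobalSec

/-!
# Direct images along affine morphisms reflect isomorphisms
-/

set_option autoImplicit false
set_option linter.unusedSectionVars false
set_option linter.style.haveILetI false
set_option backward.isDefEq.respectTransparency false
set_option backward.isDefEq.respectTransparency.types false
set_option maxHeartbeats 1000000
set_option synthInstance.maxHeartbeats 200000

universe w v' u' w'' v'' u'' u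

open CategoryTheory CategoryTheory.Limits AlgebraicGeometry Opposite AlgSp Pretriangulated
open scoped TensorProduct

noncomputable section

attribute [local instance] HasDerivedCategory.standard

namespace Groth.Agent.AlgSpRlimLib

open ModEtQc

section Gen

variable {A : Type u'} [Category.{v'} A] [Abelian A] [HasDerivedCategory.{w} A]
  {B : Type u''} [Category.{v''} B] [Abelian B] [HasDerivedCategory.{w''} B]
  (F : A ⥤ B) [F.Additive] (RF : DerivedCategory A ⥤ DerivedCategory B)
  (α : F.mapHomotopyCategory (ComplexShape.up ℤ) ⋙ DerivedCategory.Qh ⟶ DerivedCategory.Qh ⋙ RF)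

/-- The comparison of a functor with its derived functor, any target. -/
def toRFGen : F.mapHomologicalComplex (ComplexShape.up ℤ) ⋙ DerivedCategory.Q ⟶ DerivedCategory.Q ⋙ RF where
  app L := (DerivedCategory.quotientCompQhIso B).inv.app ((F.mapHomologicalComplex (ComplexShape.up ℤ)).obj L) ≫
    DerivedCategory.Qh.map ((F.mapHomotopyCategoryFactors (ComplexShape.up ℤ)).inv.app L) ≫
    α.app ((HomotopyCategory.quotient A (ComplexShape.up ℤ)).obj L) ≫
    RF.map ((DerivedCategory.quotientCompQhIso A).hom.app L)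
  naturality L L' f := by
    have h1 := (DerivedCategory.quotientCompQhIso B).inv.naturality
      ((F.mapHomologicalComplex (ComplexShape.up ℤ)).map f)
    have h2 := congrArg DerivedCategory.Qh.map ((F.mapHomotopyCategoryFactors (ComplexShape.up ℤ)).inv.naturality f)
    have h3 := α.naturality ((HomotopyCategory.quotient A (ComplexShape.up ℤ)).map f)
    have h4 := congrArg RF.map ((DerivedCategory.quotientCompQhIso A).hom.naturality f)
    simp only [Functor.comp_map, Functor.map_comp] at h1 h2 h3 h4 ⊢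
    rw [reassoc_of% h1, reassoc_of% h2, reassoc_of% h3, h4]
    simp only [Category.assoc]

variable [RF.IsRightDerivedFunctor α (HomotopyCategory.quasiIso A (ComplexShape.up ℤ))]

include α in
/-- A map of K-injective complexes sent to an isomorphism by the derived functor is sent to a quasi-isomorphism. -/
theorem quasiIso_map_of_isIso (hA : Groth.Agent.DerLib.KInjDerived.EnoughKInj A) {I J : CochainComplex A ℤ}
    [I.IsKInjective] [J.IsKInjective] (φ : I ⟶ J) (h : IsIso (RF.map (DerivedCategory.Q.map φ))) :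
    QuasiIso ((F.mapHomologicalComplex (ComplexShape.up ℤ)).map φ) := by
  haveI := h
  haveI : ∀ (L : CochainComplex A ℤ) [L.IsKInjective], IsIso ((toRFGen F RF α).app L) := fun L _ => by
    haveI := Groth.Agent.DerLib.KInjDerived.isIso_app RF α hA L
    dsimp [toRFGen]
    infer_instance
  haveI : IsIso ((DerivedCategory.Q ⋙ RF).map φ) := h
  haveI : IsIso ((toRFGen F RF α).app I ≫ (DerivedCategory.Q ⋙ RF).map φ) := inferInstance
  rw [← DerivedCategory.isIso_Q_map_iff_quasiIso]
  exact IsIso.of_isIso_fac_right ((toRFGen F RF α).naturality φ)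

end Gen

variable {S : Scheme.{u}} {X Y : Sp S} {f : X ⟶ Y} (hf : Representable f)

theorem cover_bcMap {V : EtOver Y} {ι : Type*} (V' : ι → EtOver Y) (g : ∀ i, V' i ⟶ V)
    (hcov : ∀ x, ∃ i, x ∈ Set.range (g i).hom.left.left) (x : (EtOver.bcObj hf V).obj.left.left) :
    ∃ i, x ∈ Set.range (EtOver.bcMap hf (g i)).hom.left.left := by
  obtain ⟨i, v, hv⟩ := hcov ((hf.snd V.obj.hom).left x)
  refine ⟨i, ?_⟩
  let P := EtOver.isPullback_bcMap_left hf (g i)
  obtain ⟨z, hz, -⟩ := Scheme.Pullback.exists_preimage_pullback (f := (hf.snd V.obj.hom).left) (g := (g i).hom.left.left) x v hv.symm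
  refine ⟨P.isoPullback.inv z, ?_⟩
  refine Eq.trans ?_ hz
  rw [← Scheme.Hom.comp_apply, P.isoPullback_inv_fst]
  try rfl

/-- A quasi-coherent module with no sections over the base changes of affine objects is zero. -/
theorem isZero_of_bc_sections (hY : IsAlgSpace Y) (haff : IsAffineMor f) {M : ModEt X} (hM : BC M)
    (h : ∀ V : EtOver Y, IsAffine V.obj.left.left → ∀ x : sec M (EtOver.bcObj hf V), x = 0) : IsZero M := by
  have h0 : ∀ Z : EtOver X, IsAffine Z.obj.left.left → ∀ x : sec M Z, x = 0 := by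
    intro Z hZ x
    have hp : ∀ w : Z.obj.left.left, ∃ (Z' : EtOver X) (g : Z' ⟶ Z),
        w ∈ Set.range g.hom.left.left ∧ res M g x = 0 := by
      intro w
      obtain ⟨V, hV, v, hv⟩ := exists_chart hY (Points.map f (Points.ofPt Z.obj.hom w))
      obtain ⟨z, -, hz⟩ := exists_point_bcObj hf Z w V v hv.symm
      haveI := hV
      haveI hE : IsAffine (EtOver.bcObj hf V).obj.left.left := isAffine_bcObj_of_affineMor hf haff V
      obtain ⟨W, g, g', w', h1, -⟩ := AlgSpRegLib.exists_common_chart Z (EtOver.bcObj hf V) w z hz.symm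
      obtain ⟨Z', k, hZ', w'', hk⟩ := AlgSpRegLib.exists_affine_over W w'
      refine ⟨Z', k ≫ g, ⟨w'', by rw [← h1, ← hk]; rfl⟩, ?_⟩
      let Q : Over (EtOver.bcObj hf V) := Over.mk (k ≫ g')
      obtain ⟨t, ht⟩ := ((isTilde_iff_evS M (EtOver.bcObj hf V)).1 (hM _ hE) Q hZ').2 (res M (k ≫ g) x)
      have ht0 : ∀ s : Ring Q.left ⊗[Ring (EtOver.bcObj hf V)] sec M (EtOver.bcObj hf V), s = 0 := fun s => by
        induction s using TensorProduct.induction_on with
        | zero => rfl
        | tmul r m => rw [h V hV m, TensorProduct.tmul_zero]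
        | add a b ha hb => rw [ha, hb, add_zero]
      rw [← ht, ht0 t, map_zero]
    choose Z' g hw hg using hp
    exact eq_of_cover M Z' g (fun w => ⟨w, hw w⟩) x 0 fun w => by rw [hg w, map_zero]
  rw [IsZero.iff_id_eq_zero]
  haveI : IsIso (0 : M ⟶ M) := isIso_of_affine _ (fun Z hZ x _ => h0 Z hZ x)
    fun Z hZ x => ⟨0, ((map_zero _).trans (h0 Z hZ x).symm)⟩
  exact (cancel_epi (0 : M ⟶ M)).1 (by simp)

section Reflect

variable (hY : IsAlgSpace Y) (haff : IsAffineMor f) {I J : CochainComplex (ModEt X) ℤ} (φ : I ⟶ J)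

/-- The direct image of a complex. -/
abbrev pushC (K : CochainComplex (ModEt X) ℤ) : CochainComplex (ModEt Y) ℤ :=
  ((pushModEt hf).mapHomologicalComplex (ComplexShape.up ℤ)).obj K

theorem exists_push_cycle (K : CochainComplex (ModEt X) ℤ) (m : ℤ) (V : EtOver Y)
    (z : sec (K.cycles m) (EtOver.bcObj hf V)) :
    ∃ w : sec ((pushC hf K).cycles m) V,
      appS ((pushC hf K).iCycles m) V w = appS (K.iCycles m) (EtOver.bcObj hf V) z :=
  exists_cycle (pushC hf K) m V _ (appS_iCycles_d K m (m + 1) (EtOver.bcObj hf V) z)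

theorem appS_homologyπ_map {Z : Sp S} {K L : CochainComplex (ModEt Z) ℤ} (χ : K ⟶ L) (m : ℤ) (E : EtOver Z) (z : sec (K.cycles m) E) :
    appS (HomologicalComplex.homologyMap χ m) E (appS (K.homologyπ m) E z) =
      appS (L.homologyπ m) E (appS (HomologicalComplex.cyclesMap χ m) E z) := by
  rw [← appS_comp', ← appS_comp', HomologicalComplex.homologyπ_naturality]

theorem appS_iCycles_map {Z : Sp S} {K L : CochainComplex (ModEt Z) ℤ} (χ : K ⟶ L) (m : ℤ) (E : EtOver Z) (z : sec (K.cycles m) E) :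
    appS (L.iCycles m) E (appS (HomologicalComplex.cyclesMap χ m) E z) =
      appS (χ.f m) E (appS (K.iCycles m) E z) := by
  rw [← appS_comp', ← appS_comp', HomologicalComplex.cyclesMap_i]

theorem appS_iCycles_push (m : ℤ) (V : EtOver Y) (z : sec ((pushC hf I).cycles m) V) :
    appS ((pushC hf J).iCycles m) V
      (appS (HomologicalComplex.cyclesMap (((pushModEt hf).mapHomologicalComplex (ComplexShape.up ℤ)).map φ) m) V z) =
      appS (φ.f m) (EtOver.bcObj hf V) (appS ((pushC hf I).iCycles m) V z) := by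
  rw [appS_iCycles_map]
  rfl

set_option maxHeartbeats 8000000 in
theorem exists_cover_boundary (K : CochainComplex (ModEt Y) ℤ) (m : ℤ) (V : EtOver Y) (w : sec (K.cycles m) V)
    (h0 : appS (K.homologyπ m) V w = 0) :
    ∃ R ∈ etTop Y V, ∀ {U : EtOver Y} (g : U ⟶ V), R g →
      ∃ y, appS (K.toCycles (m - 1) m) U y = res (K.cycles m) g w := by
  haveI : Epi (kernel.lift (K.homologyπ m) (K.toCycles (m - 1) m) (K.toCycles_comp_homologyπ _ _)) :=
    (ShortComplex.exact_iff_epi_kernel_lift (ShortComplex.mk (K.toCycles (m - 1) m)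
      (K.homologyπ m) (K.toCycles_comp_homologyπ _ _))).1
      (ShortComplex.exact_of_g_is_cokernel _ (K.homologyIsCokernel (m - 1) m (by simp)))
  obtain ⟨b, hb⟩ := (exact_appS (T := ShortComplex.mk (kernel.ι (K.homologyπ m)) (K.homologyπ m)
    (kernel.condition _)) (ShortComplex.exact_of_f_is_kernel _ (kernelIsKernel _)) V w).1 h0
  obtain ⟨R, hR, hRg⟩ := locally_surjective_of_epi
    (kernel.lift (K.homologyπ m) (K.toCycles (m - 1) m) (K.toCycles_comp_homologyπ _ _)) V b
  refine ⟨R, hR, fun {U} g hg => ?_⟩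
  obtain ⟨y, hy⟩ := hRg g hg
  refine ⟨y, ?_⟩
  rw [← hb, ← appS_res, ← hy, ← appS_comp', kernel.lift_ι]

theorem push_key (K : CochainComplex (ModEt X) ℤ) (m : ℤ) (V : EtOver Y) (z : sec (K.cycles m) (EtOver.bcObj hf V))
    (w : sec ((pushC hf K).cycles m) V)
    (hw : appS ((pushC hf K).iCycles m) V w = appS (K.iCycles m) (EtOver.bcObj hf V) z)
    (h0 : appS ((pushC hf K).homologyπ m) V w = 0) : appS (K.homologyπ m) (EtOver.bcObj hf V) z = 0 := by
  obtain ⟨R, hR, hRg⟩ := exists_cover_boundary (pushC hf K) m V w h0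
  choose U g hg x hx using (AlgSpRegLib.mem_etTop_iff R).1 hR
  refine eq_of_cover (K.homology m) (fun i => EtOver.bcObj hf (U i)) (fun i => EtOver.bcMap hf (g i))
    (cover_bcMap hf U g fun v => ⟨v, ⟨x v, hx v⟩⟩) _ _ fun i => ?_
  obtain ⟨y, hy⟩ := hRg (g i) (hg i)
  have e2 : appS (K.toCycles (m - 1) m) (EtOver.bcObj hf (U i)) y = res (K.cycles m) (EtOver.bcMap hf (g i)) z := by
    refine injective_appS (K.iCycles m) _ ?_
    rw [appS_iCycles_toCycles, appS_res, ← hw]
    refine Eq.trans ?_ ((congrArg (appS ((pushC hf K).iCycles m) (U i)) hy).trans (appS_res _ _ _))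
    exact (appS_iCycles_toCycles (pushC hf K) (m - 1) m (U i) y).symm
  rw [map_zero, ← appS_res, ← e2, appS_homologyπ_toCycles]

theorem push_injective (m : ℤ) (V : EtOver Y) (hIe : AffExact I (EtOver.bcObj hf V) m) (hJe : AffExact J (EtOver.bcObj hf V) m)
    (h : IsIso (HomologicalComplex.homologyMap (((pushModEt hf).mapHomologicalComplex (ComplexShape.up ℤ)).map φ) m))
    (s : sec (I.homology m) (EtOver.bcObj hf V)) (hs : appS (HomologicalComplex.homologyMap φ m) (EtOver.bcObj hf V) s = 0) :
    s = 0 := by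
  obtain ⟨z, rfl⟩ := hIe.surj s
  obtain ⟨y, hy⟩ := hJe.exact _ ((appS_homologyπ_map φ m _ z).symm.trans hs)
  obtain ⟨w, hw⟩ := exists_push_cycle hf I m V z
  refine push_key hf I m V z w hw ?_
  haveI := h
  refine (injective_iff_map_eq_zero _).1
    (injective_appS (HomologicalComplex.homologyMap (((pushModEt hf).mapHomologicalComplex (ComplexShape.up ℤ)).map φ) m) V) _ ?_
  rw [appS_homologyπ_map]
  have e : appS ((pushC hf J).toCycles (m - 1) m) V y =
      appS (HomologicalComplex.cyclesMap (((pushModEt hf).mapHomologicalComplex (ComplexShape.up ℤ)).map φ) m) V w := by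
    refine injective_appS ((pushC hf J).iCycles m) V ?_
    rw [appS_iCycles_push, hw, ← appS_iCycles_map, ← hy, appS_iCycles_toCycles, appS_iCycles_toCycles]
    rfl
  rw [← e, appS_homologyπ_toCycles]

set_option maxHeartbeats 8000000 in
theorem push_cokernel_eq_zero (m : ℤ) (V : EtOver Y) (hJe : AffExact J (EtOver.bcObj hf V) m)
    (h : IsIso (HomologicalComplex.homologyMap (((pushModEt hf).mapHomologicalComplex (ComplexShape.up ℤ)).map φ) m))
    (n : sec (J.homology m) (EtOver.bcObj hf V)) :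
    appS (cokernel.π (HomologicalComplex.homologyMap φ m)) (EtOver.bcObj hf V) n = 0 := by
  let G := ((pushModEt hf).mapHomologicalComplex (ComplexShape.up ℤ)).map φ
  obtain ⟨z, rfl⟩ := hJe.surj n
  obtain ⟨w, hw⟩ := exists_push_cycle hf J m V z
  haveI := h
  obtain ⟨R, hR, hRg⟩ := locally_surjective_of_epi ((pushC hf I).homologyπ m ≫ HomologicalComplex.homologyMap G m) V
    (appS ((pushC hf J).homologyπ m) V w)
  choose U g hg x hx using (AlgSpRegLib.mem_etTop_iff R).1 hR
  refine eq_of_cover (cokernel (HomologicalComplex.homologyMap φ m)) (fun i => EtOver.bcObj hf (U i))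
    (fun i => EtOver.bcMap hf (g i)) (cover_bcMap hf U g fun v => ⟨v, ⟨x v, hx v⟩⟩) _ _ fun i => ?_
  obtain ⟨u, hu⟩ := hRg (g i) (hg i)
  obtain ⟨zI, hzI⟩ := exists_cycle I m (EtOver.bcObj hf (U i)) (appS ((pushC hf I).iCycles m) (U i) u)
    (appS_iCycles_d (pushC hf I) m (m + 1) (U i) u)
  have e : appS (J.homologyπ m) _ (appS (HomologicalComplex.cyclesMap φ m) _ zI -
      res (J.cycles m) (EtOver.bcMap hf (g i)) z) = 0 := by
    refine push_key hf J m (U i) _ (appS (HomologicalComplex.cyclesMap G m) (U i) u - res _ (g i) w) ?_ ?_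
    · rw [map_sub, map_sub, appS_iCycles_push, appS_iCycles_map, hzI, appS_res, appS_res, hw]
      rfl
    · rw [map_sub, ← appS_homologyπ_map, appS_res, ← appS_comp', hu, sub_self]
  rw [map_zero, ← appS_res, ← appS_res, ← sub_eq_zero.1 ((map_sub (appS (J.homologyπ m) _) _ _).symm.trans e),
    ← appS_homologyπ_map, ← appS_comp', cokernel.condition]
  rfl

include hY haff in
theorem isIso_homologyMap_of_push (m : ℤ) (hI : ∀ q, (I.homology q).IsQuasicoherent)
    (hJ : ∀ q, (J.homology q).IsQuasicoherent)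
    (hIe : ∀ E : EtOver X, IsAffine E.obj.left.left → AffExact I E m)
    (hJe : ∀ E : EtOver X, IsAffine E.obj.left.left → AffExact J E m)
    (h : IsIso (HomologicalComplex.homologyMap (((pushModEt hf).mapHomologicalComplex (ComplexShape.up ℤ)).map φ) m)) :
    IsIso (HomologicalComplex.homologyMap φ m) := by
  let ψ := HomologicalComplex.homologyMap φ m
  have hE : ∀ V : EtOver Y, IsAffine V.obj.left.left → IsAffine (EtOver.bcObj hf V).obj.left.left := fun V hV =>
    haveI := hV
    isAffine_bcObj_of_affineMor hf haff V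
  have hb1 := bc_of_isQuasicoherent (I.homology m) (hM := hI m)
  have hb2 := bc_of_isQuasicoherent (J.homology m) (hM := hJ m)
  haveI : Mono ψ := by
    refine Preadditive.mono_of_isZero_kernel ψ (isZero_of_bc_sections hf hY haff (ModEtQc.bc_kernel ψ hb1 hb2) fun V hV x => ?_)
    refine injective_appS (kernel.ι ψ) _ ?_
    rw [map_zero]
    refine push_injective hf φ m V (hIe _ (hE V hV)) (hJe _ (hE V hV)) h _ ?_
    rw [← appS_comp', kernel.condition]
    rfl
  haveI : Epi ψ := by
    refine Preadditive.epi_of_isZero_cokernel ψ (isZero_of_bc_sections hf hY haff (ModEtQc.bc_cokernel ψ hb1 hb2) fun V hV x => ?_)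
    haveI := hE V hV
    obtain ⟨n, hn⟩ := surjective_appS (T := ShortComplex.mk (kernel.ι (cokernel.π ψ)) (cokernel.π ψ) (kernel.condition _))
      (ShortComplex.ShortExact.mk' (ShortComplex.exact_of_f_is_kernel _ (kernelIsKernel _)) inferInstance inferInstance)
      (ModEtQc.bc_kernel _ hb2 (ModEtQc.bc_cokernel ψ hb1 hb2)) (EtOver.bcObj hf V) x
    rw [← hn]
    exact push_cokernel_eq_zero hf φ m V (hJe _ (hE V hV)) h n
  exact isIso_of_mono_of_epi ψ

end Reflect

include hf in
theorem isIso_of_isIso_Rpush (hY : IsAlgSpace Y) (haff : IsAffineMor f) [HasRpushModEtD hf] {E F : DModEt X}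
    (hE : DCoh.IsQCohDMod (OEtRing X) E) (hF : DCoh.IsQCohDMod (OEtRing X) F) (φ : E ⟶ F)
    (h : IsIso ((RpushModEtD hf).map φ)) : IsIso φ := by
  haveI := isGrothendieckAbelian_modEt (X := X)
  haveI : EnoughInjectives (ModEt X) := ModEtInjLib.enoughInjectives_sheaf (OEtRing X)
  obtain ⟨I, hI, ⟨eI⟩⟩ := DerLib.KInjUse.exists_iso_Q_kInjective E
  obtain ⟨J, hJ, ⟨eJ⟩⟩ := DerLib.KInjUse.exists_iso_Q_kInjective F
  haveI := hI; haveI := hJ
  obtain ⟨ψ, hψ⟩ := DerLib.KInjUse.Q_map_surjective I J (eI.inv ≫ φ ≫ eJ.hom)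
  haveI := h
  have h' : IsIso ((RpushModEtD hf).map (DerivedCategory.Q.map ψ)) := by
    rw [hψ, Functor.map_comp, Functor.map_comp]; infer_instance
  have hqi := quasiIso_map_of_isIso (pushModEt hf) (RpushModEtD hf)
    ((pushModEtKh hf).totalRightDerivedUnit DerivedCategory.Qh (HomotopyCategory.quasiIso (ModEt X) (ComplexShape.up ℤ)))
    enoughKInj_modEt ψ h'
  have hq : ∀ {P : DModEt X} {K : CochainComplex (ModEt X) ℤ}, DCoh.IsQCohDMod (OEtRing X) P →
      (P ≅ DerivedCategory.Q.obj K) → ∀ q, (K.homology q).IsQuasicoherent := fun hP e q =>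
    ObjectProperty.prop_of_iso (SheafOfModules.isQuasicoherent (OEtRing X))
      ((DerivedCategory.homologyFunctor (ModEt X) q).mapIso e ≪≫ (DerivedCategory.homologyFunctorFactors (ModEt X) q).app _)
      (hP q)
  haveI : IsIso (DerivedCategory.Q.map ψ) := by
    rw [DerivedCategory.isIso_Q_map_iff_quasiIso]
    exact ⟨fun m => (quasiIsoAt_iff_isIso_homologyMap _ _).2 (isIso_homologyMap_of_push hf hY haff ψ m (hq hE eI) (hq hF eJ)
      (fun A hA => affExact_of_kInjective I (hq hE eI) A hA m) (fun A hA => affExact_of_kInjective J (hq hF eJ) A hA m)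
      ((quasiIsoAt_iff_isIso_homologyMap _ _).1 (hqi.quasiIsoAt m)))⟩
  rw [show φ = eI.hom ≫ DerivedCategory.Q.map ψ ≫ eJ.inv by rw [hψ]; simp]
  infer_instance

end Groth.Agent.AlgSpRlimLib
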