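import Groth.Agent.AlgSpRlimLib.Prod
import Groth.Agent.AlgSpRlimLib.ExtZero
import Groth.Agent.ModEtQcLib.AffineColim
import Groth.Prelude.Def_AlgSpD
import Mathlib.CategoryTheory.Abelian.Injective.Ext
import Mathlib.Algebra.Homology.DerivedCategory.Ext.ExactSequences
import Mathlib.Algebra.Homology.QuasiIso

/-!
# Surjective towers of quasi-coherent modules
-/

set_option autoImplicit false
set_option linter.unusedSectionVars false
set_option linter.style.haveILetI false
set_option backward.isDefEq.respectTransparency false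
set_option backward.isDefEq.respectTransparency.types false
set_option maxHeartbeats 1000000
set_option synthInstance.maxHeartbeats 200000

universe u

open CategoryTheory CategoryTheory.Limits CategoryTheory.Abelian AlgebraicGeometry Opposite AlgSp
open Groth.Agent Groth.Agent.EtShLib

noncomputable section

namespace Groth.Agent.AlgSpRlimLib

open ModEtQc

variable {S : Scheme.{u}} {X : Sp S}

section Restrict

variable (U : EtOver X)

theorem injective_resModEt (I : ModEt X) [Injective I] : Injective ((resModEt U).obj I) :=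
  ExtZero.injective_restrict (OEtRing X) U I

/-- An injective resolution restricted to an object. -/
def resRes {M : ModEt X} (R : InjectiveResolution M) : InjectiveResolution ((resModEt U).obj M) where
  cocomplex := ((resModEt U).mapHomologicalComplex _).obj R.cocomplex
  injective k := injective_resModEt U (R.cocomplex.X k)
  ι := (HomologicalComplex.singleMapHomologicalComplex (resModEt U) (ComplexShape.up ℕ) 0).inv.app M ≫
    ((resModEt U).mapHomologicalComplex _).map R.ι
  quasiIso := inferInstance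

/-- Sections over an object give maps from the structure sheaf of the object. -/
theorem exists_hom_of_sec (N : ModEt X) (y : sec N U) :
    ∃ g : SheafOfModules.unit (OEtOn U) ⟶ (resModEt U).obj N,
      g.val.app (op (Over.mk (𝟙 U))) (1 : (OEtOn U).obj.obj (op (Over.mk (𝟙 U)))) = y := by
  let s : ((resModEt U).obj N).sections := PresheafOfModules.sectionsMk (fun Z => res N Z.unop.hom y) fun {Z Z'} k => by
    show res N k.unop.left (res N Z.unop.hom y) = res N Z'.unop.hom y
    rw [← res_comp, Over.w k.unop]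
  refine ⟨((resModEt U).obj N).unitHomEquiv.symm s, ?_⟩
  refine (SheafOfModules.unitHomEquiv_apply_coe ((resModEt U).obj N)
    (((resModEt U).obj N).unitHomEquiv.symm s) (op (Over.mk (𝟙 U)))).symm.trans ?_
  rw [Equiv.apply_symm_apply]
  show res N (𝟙 U) y = y
  exact ConcreteCategory.congr_hom (N.val.presheaf.map_id (op U)) y

theorem hom_ext_top {N : ModEt X} {f g : SheafOfModules.unit (OEtOn U) ⟶ (resModEt U).obj N}
    (h : f.val.app (op (Over.mk (𝟙 U))) (1 : (OEtOn U).obj.obj (op (Over.mk (𝟙 U)))) =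
      g.val.app (op (Over.mk (𝟙 U))) (1 : (OEtOn U).obj.obj (op (Over.mk (𝟙 U))))) : f = g := by
  apply ((resModEt U).obj N).unitHomEquiv.injective
  apply Subtype.ext
  funext Z
  let k : Z.unop ⟶ Over.mk (𝟙 U) := Over.homMk Z.unop.hom (Category.comp_id _)
  refine ((((resModEt U).obj N).unitHomEquiv f).property k.op).symm.trans ?_
  refine Eq.trans ?_ ((((resModEt U).obj N).unitHomEquiv g).property k.op)
  exact congrArg _ h

/-- Modules with an injective resolution exact on sections over `U` have no higher `Ext` from the structure sheaf of `U`. -/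
theorem subsingleton_ext_restrict [HasExt.{u + 2} (ModEtOn U)] {M : ModEt X} (R : InjectiveResolution M) (n : ℕ)
    (h : ∀ x : sec (R.cocomplex.X (n + 1)) U, appS (R.cocomplex.d (n + 1) (n + 2)) U x = 0 →
      ∃ y, appS (R.cocomplex.d n (n + 1)) U y = x) :
    Subsingleton (Ext.{u + 2} (SheafOfModules.unit (OEtOn U)) ((resModEt U).obj M) (n + 1)) := by
  refine ⟨fun a b => ?_⟩
  suffices H : ∀ a : Ext.{u + 2} (SheafOfModules.unit (OEtOn U)) ((resModEt U).obj M) (n + 1), a = 0 by rw [H a, H b]
  intro a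
  obtain ⟨f, hf, rfl⟩ := (resRes U R).extMk_surjective a (n + 2) rfl
  rw [InjectiveResolution.extMk_eq_zero_iff _ _ _ _ _ n rfl]
  obtain ⟨y, hy⟩ := h (f.val.app (op (Over.mk (𝟙 U))) (1 : (OEtOn U).obj.obj (op (Over.mk (𝟙 U)))))
    (ConcreteCategory.congr_hom (congrArg (fun φ => φ.val.app (op (Over.mk (𝟙 U)))) hf) _)
  obtain ⟨g, hg⟩ := exists_hom_of_sec U _ y
  refine ⟨g, hom_ext_top U ?_⟩
  exact (congrArg (appS (R.cocomplex.d n (n + 1)) U) hg).trans hy

end Restrict

section Tower

variable {M : ℕ → ModEt X} (t : ∀ n, M (n + 1) ⟶ M n)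

/-- The inclusion of the limit in the product. -/
def limι : limit (Functor.ofOpSequence t) ⟶ ∏ᶜ M := Pi.lift fun n => limit.π (Functor.ofOpSequence t) (op n)

/-- Identity minus transition. -/
def oneSub : (∏ᶜ M) ⟶ ∏ᶜ M := Pi.lift fun n => Pi.π M n - Pi.π M (n + 1) ≫ t n

theorem limπ_t (n : ℕ) :
    limit.π (Functor.ofOpSequence t) (op (n + 1)) ≫ t n = limit.π (Functor.ofOpSequence t) (op n) :=
  (congrArg (limit.π (Functor.ofOpSequence t) (op (n + 1)) ≫ ·) (Functor.ofOpSequence_map_homOfLE_succ t n)).symm.trans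
    (limit.w (Functor.ofOpSequence t) (homOfLE (Nat.le_succ n)).op)

theorem limι_π (n : ℕ) : limι t ≫ Pi.π M n = limit.π (Functor.ofOpSequence t) (op n) := Pi.lift_π _ n

theorem limι_oneSub : limι t ≫ oneSub t = 0 := Limits.Pi.hom_ext _ _ fun n => by
  rw [oneSub, Category.assoc, Pi.lift_π, Preadditive.comp_sub, reassoc_of% (limι_π t (n + 1)), limι_π, limπ_t,
    sub_self, zero_comp]

/-- The sequence computing the limit. -/
abbrev limSC : ShortComplex (ModEt X) := ShortComplex.mk (limι t) (oneSub t) (limι_oneSub t)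

theorem nonempty_isKernel_limι : Nonempty (IsLimit (KernelFork.ofι (limι t) (limι_oneSub t))) := by
  have hw : ∀ {W : ModEt X} (g : W ⟶ ∏ᶜ M), g ≫ oneSub t = 0 → ∀ n, (g ≫ Pi.π M (n + 1)) ≫ t n = g ≫ Pi.π M n := by
    intro W g hg n
    have e := congrArg (· ≫ Pi.π M n) hg
    simp only [oneSub, Category.assoc, Pi.lift_π, Preadditive.comp_sub, zero_comp, sub_eq_zero] at e
    rw [Category.assoc, ← e]
  refine ⟨KernelFork.IsLimit.ofι _ _ (fun {W} g hg => limit.lift (Functor.ofOpSequence t) ⟨W,
    NatTrans.ofOpSequence (G := Functor.ofOpSequence t) (fun n => g ≫ Pi.π M n) (fun n => by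
      refine (Category.id_comp _).trans ((hw g hg n).symm.trans ?_)
      exact congrArg ((g ≫ Pi.π M (n + 1)) ≫ ·) (Functor.ofOpSequence_map_homOfLE_succ t n).symm)⟩)
    (fun {W} g hg => Limits.Pi.hom_ext _ _ fun n => ?_) fun {W} g hg m hm => limit.hom_ext fun ⟨n⟩ => ?_⟩
  · rw [Category.assoc, limι_π]
    exact limit.lift_π _ (op n)
  · rw [limit.lift_π]
    show m ≫ _ = g ≫ Pi.π M n
    rw [← limι_π, ← Category.assoc, hm]

theorem exists_rec {A : ℕ → Type*} [∀ n, AddCommGroup (A n)] (f : ∀ n, A (n + 1) →+ A n)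
    (hf : ∀ n, Function.Surjective (f n)) (w : ∀ n, A n) : ∃ y : ∀ n, A n, ∀ n, y n - f n (y (n + 1)) = w n := by
  refine ⟨fun n => Nat.rec (0 : A 0) (fun k yk => (hf k (yk - w k)).choose) n, fun n => ?_⟩
  rw [(hf n _).choose_spec, sub_sub_cancel]

variable (hM : ∀ n, (M n).IsQuasicoherent) (ht : ∀ n, Epi (t n))

include hM ht in
theorem surjective_oneSub (E : EtOver X) [IsAffine E.obj.left.left] :
    Function.Surjective (appS (oneSub t) E) := by
  intro w
  have hs : ∀ n, Function.Surjective (appS (t n) E) := fun n => by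
    haveI := ht n
    let T := ShortComplex.mk (kernel.ι (t n)) (t n) (kernel.condition _)
    exact surjective_appS (T := T) (ShortComplex.ShortExact.mk' (ShortComplex.exact_of_f_is_kernel _ (kernelIsKernel _))
      inferInstance ‹_›)
      (ModEtQc.bc_kernel (t n) (bc_of_isQuasicoherent (M (n + 1)) (hM := hM _)) (bc_of_isQuasicoherent (M n) (hM := hM _))) E
  obtain ⟨y, hy⟩ := exists_rec (A := fun n => sec (M n) E) (fun n => (appS (t n) E).toAddMonoidHom) hs
    fun n => appS (Pi.π M n) E w
  obtain ⟨z, hz⟩ := pi_sec_exists E y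
  refine ⟨z, pi_sec_ext E _ _ fun n => ?_⟩
  rw [← hy n, ← appS_comp', oneSub, Pi.lift_π]
  show appS (Pi.π M n) E z - appS (t n) E (appS (Pi.π M (n + 1)) E z) = _
  rw [hz, hz]
  rfl

include hM ht in
theorem shortExact_limSC : (limSC t).ShortExact := by
  obtain ⟨hk⟩ := nonempty_isKernel_limι t
  refine ShortComplex.ShortExact.mk' (ShortComplex.exact_of_f_is_kernel _ hk) (Fork.IsLimit.mono hk) ?_
  refine ((ShortComplex.mk (oneSub t) (0 : (∏ᶜ M) ⟶ ∏ᶜ M) comp_zero).exact_iff_epi rfl).1 (exact_of_affine _ ?_)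
  intro E hE x _
  exact surjective_oneSub t hM ht E x

include hM ht in
theorem subsingleton_ext_limit (U : EtOver X) (hU : IsAffine U.obj.left.left) [HasExt.{u + 2} (ModEtOn U)] (p : ℕ) :
    Subsingleton (Ext.{u + 2} (SheafOfModules.unit (OEtOn U)) ((resModEt U).obj (limit (Functor.ofOpSequence t))) (p + 1)) := by
  haveI : EnoughInjectives (ModEt X) := ModEtInjLib.enoughInjectives_sheaf (OEtRing X)
  have hA : ∀ n, MAcyclic (M n) := fun n => haveI := hM n; mAcyclic_of_qcoh _
  let I := fun n => InjectiveResolution.of (M n)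
  have hP : ∀ k, Subsingleton (Ext.{u + 2} (SheafOfModules.unit (OEtOn U)) ((resModEt U).obj (∏ᶜ M)) (k + 1)) :=
    fun k => subsingleton_ext_restrict U (prodRes I hA) k fun x hx => sec_exact_prodCx I hA k U hU x hx
  have hS := (shortExact_limSC t hM ht).map_of_exact (resModEt U)
  refine ⟨fun a b => ?_⟩
  suffices H : ∀ a : Ext.{u + 2} (SheafOfModules.unit (OEtOn U))
      ((resModEt U).obj (limit (Functor.ofOpSequence t))) (p + 1), a = 0 by rw [H a, H b]
  intro a
  obtain ⟨x₃, rfl⟩ := Ext.covariant_sequence_exact₁ (SheafOfModules.unit (OEtOn U)) hS a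
    ((hP p).elim _ _) (n₀ := p) rfl
  cases p with
  | succ q =>
    rw [show x₃ = 0 from (hP q).elim _ _]
    simp
  | zero =>
    obtain ⟨φ, rfl⟩ := (Ext.mk₀_bijective (SheafOfModules.unit (OEtOn U)) ((resModEt U).obj (∏ᶜ M))).2 x₃
    obtain ⟨z, hz⟩ := haveI := hU; surjective_oneSub t hM ht U
      (φ.val.app (op (Over.mk (𝟙 U))) (1 : (OEtOn U).obj.obj (op (Over.mk (𝟙 U)))))
    obtain ⟨g, hg⟩ := exists_hom_of_sec U _ z
    have e : g ≫ (resModEt U).map (oneSub t) = φ := hom_ext_top U ((congrArg (appS (oneSub t) U) hg).trans hz)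
    rw [← e]
    exact (Ext.mk₀_comp_mk₀_assoc _ _ _).symm.trans
      ((congrArg ((Ext.mk₀ g).comp · _) hS.comp_extClass).trans (Ext.comp_zero _ _ _ _ _))

end Tower

end Groth.Agent.AlgSpRlimLib
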