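import Groth.Agent.AlgSpRlimLib.Trunc

/-!
# Products of objects with quasi-coherent cohomology, and cohomology of derived limits
-/

set_option autoImplicit false
set_option linter.unusedSectionVars false
set_option linter.style.haveILetI false
set_option backward.isDefEq.respectTransparency false
set_option backward.isDefEq.respectTransparency.types false
set_option maxHeartbeats 1000000
set_option synthInstance.maxHeartbeats 200000

universe w v' u' u

open CategoryTheory CategoryTheory.Limits AlgebraicGeometry Opposite AlgSp Pretriangulated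
open DerivedCategory.TStructure (t)

noncomputable section

attribute [local instance] HasDerivedCategory.standard

namespace Groth.Agent.AlgSpRlimLib

open ModEtQc

section Gen

variable {A : Type u'} [Category.{v'} A] [Abelian A] [HasDerivedCategory.{w} A]

theorem piMap_piComparison {D D' : Type*} [Category D] [Category D'] (G : D ⥤ D') {ι : Type} {P Q : ι → D}
    [HasProduct P] [HasProduct Q] [HasProduct fun i => G.obj (P i)] [HasProduct fun i => G.obj (Q i)]
    (f : ∀ i, P i ⟶ Q i) :
    G.map (Limits.Pi.map f) ≫ piComparison G Q = piComparison G P ≫ Limits.Pi.map fun i => G.map (f i) := by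
  refine Limits.Pi.hom_ext _ _ fun i => ?_
  simp only [Category.assoc, piComparison_comp_π, Pi.map_π, piComparison_comp_π_assoc, ← Functor.map_comp]

/-- The conjugate of an epimorphism of products of cohomologies. -/
theorem epi_map_piMap {ι : Type} {P : ι → DerivedCategory A} [HasProduct P] (f : ∀ i, P i ⟶ P i) (q : ℤ)
    [HasProduct fun i => (DerivedCategory.homologyFunctor A q).obj (P i)]
    {N : ι → A} [HasProduct N] (e : ∀ i, (DerivedCategory.homologyFunctor A q).obj (P i) ⟶ N i) (g : ∀ i, N i ⟶ N i)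
    (he : ∀ i, IsIso (e i)) (hc : IsIso (piComparison (DerivedCategory.homologyFunctor A q) P))
    (hfg : ∀ i, (DerivedCategory.homologyFunctor A q).map (f i) ≫ e i = e i ≫ g i) (hg : Epi (Limits.Pi.map g)) :
    Epi ((DerivedCategory.homologyFunctor A q).map (Limits.Pi.map f)) := by
  haveI := hc
  haveI := isIso_piMap e he
  haveI := hg
  let k := piComparison (DerivedCategory.homologyFunctor A q) P ≫ Limits.Pi.map e
  have h : (DerivedCategory.homologyFunctor A q).map (Limits.Pi.map f) ≫ k = k ≫ Limits.Pi.map g := by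
    show _ ≫ _ ≫ _ = (_ ≫ _) ≫ _
    rw [← Category.assoc, piMap_piComparison, Category.assoc, Category.assoc]
    refine congrArg (_ ≫ ·) (Limits.Pi.hom_ext _ _ fun i => ?_)
    simp only [Category.assoc, Pi.map_π, Pi.map_π_assoc, hfg]
  rw [show (DerivedCategory.homologyFunctor A q).map (Limits.Pi.map f) = k ≫ Limits.Pi.map g ≫ inv k by
    rw [← Category.assoc, ← h, Category.assoc, IsIso.hom_inv_id, Category.comp_id]]
  infer_instance

/-- Cohomology commutes with a product when it does so with the products of a resolving family of triangles. -/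
theorem isIso_piComparison_of_triangles {ι : Type} {K P : ι → DerivedCategory A} [HasProduct K] [HasProduct P]
    [HasProduct fun i => (K i)⟦(1 : ℤ)⟧] (a : ∀ i, K i ⟶ P i) (f : ∀ i, P i ⟶ P i) (c : ∀ i, P i ⟶ (K i)⟦(1 : ℤ)⟧)
    (hT : ∀ i, Triangle.mk (a i) (f i) (c i) ∈ distTriang _) (m : ℤ)
    [HasProduct fun i => (DerivedCategory.homologyFunctor A m).obj (K i)]
    [HasProduct fun i => (DerivedCategory.homologyFunctor A m).obj (P i)]
    (hP : IsIso (piComparison (DerivedCategory.homologyFunctor A m) P))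
    (hm : ∀ i, Mono ((DerivedCategory.homologyFunctor A m).map (a i)))
    (he : Epi ((DerivedCategory.homologyFunctor A (m - 1)).map (Limits.Pi.map f))) :
    IsIso (piComparison (DerivedCategory.homologyFunctor A m) K) := by
  let G := DerivedCategory.homologyFunctor A m
  haveI : HasProduct fun i => (Triangle.mk (a i) (f i) (c i)).obj₁ := ‹HasProduct K›
  haveI : HasProduct fun i => (Triangle.mk (a i) (f i) (c i)).obj₂ := ‹HasProduct P›
  haveI : HasProduct fun i => (Triangle.mk (a i) (f i) (c i)).obj₃ := ‹HasProduct P›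
  haveI : HasProduct fun i => (Triangle.mk (a i) (f i) (c i)).obj₁⟦(1 : ℤ)⟧ :=
    ‹HasProduct fun i => (K i)⟦(1 : ℤ)⟧›
  obtain ⟨hmono, hlift⟩ := kernel_of_triangle _ (productTriangle_distinguished _ hT) m he
  haveI := hP
  haveI : Mono (G.map (Limits.Pi.map a)) := hmono
  have hca : piComparison G K ≫ Limits.Pi.map (fun i => G.map (a i)) = G.map (Limits.Pi.map a) ≫ piComparison G P :=
    (piMap_piComparison G a).symm
  haveI : Mono (piComparison G K) := mono_of_mono_fac hca
  haveI := hm
  haveI : Mono (Limits.Pi.map fun i => G.map (a i)) := Pi.map_mono _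
  obtain ⟨l, hl⟩ := hlift (Limits.Pi.map (fun i => G.map (a i)) ≫ inv (piComparison G P)) (by
    refine (cancel_mono (piComparison G P)).1 ?_
    show ((_ ≫ inv _) ≫ G.map (Limits.Pi.map f)) ≫ _ = 0 ≫ _
    rw [Category.assoc, piMap_piComparison, Category.assoc, IsIso.inv_hom_id_assoc, zero_comp]
    refine Limits.Pi.hom_ext _ _ fun i => ?_
    simp only [Category.assoc, Pi.map_π, Pi.map_π_assoc, zero_comp]
    rw [← Functor.map_comp, show a i ≫ f i = 0 from comp_distTriang_mor_zero₁₂ _ (hT i), Functor.map_zero, comp_zero])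
  have hl' : l ≫ piComparison G K = 𝟙 _ := by
    refine (cancel_mono (Limits.Pi.map fun i => G.map (a i))).1 ?_
    rw [Category.id_comp, Category.assoc, hca, ← Category.assoc]
    refine (congrArg (· ≫ piComparison G P) hl).trans ?_
    rw [Category.assoc, IsIso.inv_hom_id, Category.comp_id]
  haveI : IsSplitEpi (piComparison G K) := IsSplitEpi.mk' ⟨l, hl'⟩
  exact isIso_of_mono_of_epi _

end Gen

variable {S : Scheme.{u}} {X : Sp S}

theorem epi_H_oneSub_tr {F : DModEt X} (hF : DCoh.IsQCohDMod (OEtRing X) F) [HasProduct (tr F)] (q : ℤ) :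
    Epi ((DerivedCategory.homologyFunctor (ModEt X) q).map (oneSubG (trMap F))) :=
  epi_of_conj (map_oneSubG (DerivedCategory.homologyFunctor (ModEt X) q) (trMap F))
    (isIso_piComparison_tr (T := ℕ) (fun _ => F) (fun n => n) (fun _ => hF) q)
    (isIso_piComparison_tr (T := ℕ) (fun _ => F) (fun n => n) (fun _ => hF) q)
    (epi_of_aSurj (aSurj_oneSubH_tr hF q))

/-- Cohomology sheaves commute with products of objects with quasi-coherent cohomology. -/
theorem isIso_piComparison_of_qcoh {ι : Type} (K : ι → DModEt X) [HasProduct K]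
    (hK : ∀ i, DCoh.IsQCohDMod (OEtRing X) (K i)) (m : ℤ) :
    IsIso (piComparison (DerivedCategory.homologyFunctor (ModEt X) m) K) := by
  haveI : ∀ i, HasProduct (tr (K i)) := fun i => hasProduct_D _
  choose c hT using fun i => isRlim_trunc (hK i)
  haveI : HasProduct fun i => ∏ᶜ tr (K i) := hasProduct_D _
  haveI : HasProduct fun i => (K i)⟦(1 : ℤ)⟧ := hasProduct_D _
  haveI : HasProduct fun p : Σ _ : ι, ℕ => tr (K p.1) p.2 := hasProduct_D _
  have hP : ∀ q, IsIso (piComparison (DerivedCategory.homologyFunctor (ModEt X) q) fun i => ∏ᶜ tr (K i)) := fun q =>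
    isIso_piComparison_sigma (DerivedCategory.homologyFunctor (ModEt X) q) (fun _ : ι => ℕ) (fun i => tr (K i))
      (isIso_piComparison_tr (T := Σ _ : ι, ℕ) (fun p => K p.1) (fun p => p.2) (fun p => hK p.1) q)
      (fun i => isIso_piComparison_tr (T := ℕ) (fun _ => K i) (fun n => n) (fun _ => hK i) q)
  refine isIso_piComparison_of_triangles _ (fun i => oneSubG (trMap (K i))) c hT m (hP m)
    (fun i => (kernel_of_triangle _ (hT i) m (epi_H_oneSub_tr (hK i) (m - 1))).1) ?_
  exact epi_map_piMap _ (m - 1)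
    (fun i => piComparison (DerivedCategory.homologyFunctor (ModEt X) (m - 1)) (tr (K i)))
    (fun i => oneSubH (tr (K i)) (trMap (K i)) (m - 1))
    (fun i => isIso_piComparison_tr (T := ℕ) (fun _ => K i) (fun n => n) (fun _ => hK i) (m - 1)) (hP (m - 1))
    (fun i => map_oneSubG _ (trMap (K i))) (epi_of_aSurj (aSurj_piMap fun i => aSurj_oneSubH_tr (hK i) (m - 1)))

/-- Sections of a kernel of identity minus transition. -/
theorem sections_kernel {M : ℕ → ModEt X} (τ : ∀ n, M (n + 1) ⟶ M n) {H : ModEt X} (ρ : H ⟶ ∏ᶜ M) (hρ : Mono ρ)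
    (hlift : ∀ {Z : ModEt X} (g : Z ⟶ ∏ᶜ M), g ≫ oneSubG τ = 0 → ∃ l, l ≫ ρ = g)
    (p : ∀ n, H ⟶ M n) (hp : ∀ n, ρ ≫ Pi.π M n = p n) (W : EtOver X) :
    (∀ s s' : sec H W, (∀ n, appS (p n) W s = appS (p n) W s') → s = s') ∧
    ∀ x : ∀ n, sec (M n) W, (∀ n, appS (τ n) W (x (n + 1)) = x n) → ∃ s, ∀ n, appS (p n) W s = x n := by
  haveI := hρ
  have hπ : ∀ n s, appS (Pi.π M n) W (appS ρ W s) = appS (p n) W s := fun n s => by rw [← appS_comp', hp]
  refine ⟨fun s s' h => injective_appS ρ W (pi_sec_ext W _ _ fun n => ?_), fun x hx => ?_⟩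
  · rw [hπ, hπ, h n]
  · obtain ⟨z, hz⟩ := pi_sec_exists W x
    have h0 : appS (oneSubG τ) W z = 0 := by
      refine pi_sec_ext W _ _ fun n => ?_
      rw [map_zero, ← appS_comp', oneSubG, Pi.lift_π]
      show appS (Pi.π M n) W z - appS (τ n) W (appS (Pi.π M (n + 1)) W z) = 0
      rw [hz n, hz (n + 1), hx n, sub_self]
    obtain ⟨k, hk⟩ := (exact_appS (T := ShortComplex.mk (kernel.ι (oneSubG τ)) (oneSubG τ) (kernel.condition _))
      (ShortComplex.exact_of_f_is_kernel _ (kernelIsKernel _)) W z).1 h0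
    obtain ⟨l, hl⟩ := hlift (kernel.ι (oneSubG τ)) (kernel.condition _)
    refine ⟨appS l W k, fun n => ?_⟩
    refine ((hπ n (appS l W k)).symm.trans ((congrArg (appS (Pi.π M n) W) ?_).trans (hz n)))
    exact ((appS_comp' l ρ W k).symm.trans ((congrArg (fun ψ => appS ψ W k) hl).trans hk))

/-- Sections of the cohomology of a derived limit of a tower with epimorphisms on cohomology. -/
theorem sections_rlim (K : ℕ → DModEt X) (t : ∀ n, K (n + 1) ⟶ K n) (hK : ∀ n, DCoh.IsQCohDMod (OEtRing X) (K n))
    (ht : ∀ (q : ℤ) (n : ℕ), Epi ((DerivedCategory.homologyFunctor (ModEt X) q).map (t n)))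
    [HasProduct K] (L : DModEt X) (a : L ⟶ ∏ᶜ K) (c : (∏ᶜ K) ⟶ L⟦(1 : ℤ)⟧)
    (hT : Triangle.mk a (oneSubG t) c ∈ distTriang _) (q : ℤ) (W : EtOver X) :
    (∀ s s' : sec (DCoh.HDMod (OEtRing X) L q) W,
      (∀ n, appS ((DerivedCategory.homologyFunctor (ModEt X) q).map (a ≫ Pi.π K n)) W s =
        appS ((DerivedCategory.homologyFunctor (ModEt X) q).map (a ≫ Pi.π K n)) W s') → s = s') ∧
    ∀ x : ∀ n, sec (DCoh.HDMod (OEtRing X) (K n) q) W,
      (∀ n, appS ((DerivedCategory.homologyFunctor (ModEt X) q).map (t n)) W (x (n + 1)) = x n) →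
      ∃ s, ∀ n, appS ((DerivedCategory.homologyFunctor (ModEt X) q).map (a ≫ Pi.π K n)) W s = x n := by
  obtain ⟨hmono, hzero, hlift⟩ := rlim_kernel K t a c hT q (fun p => isIso_piComparison_of_qcoh K hK p)
    (epi_of_aSurj (aSurj_oneSubG _ (fun n => hK n (q - 1)) (fun n => ht (q - 1) n)))
  exact sections_kernel _ (rho K a q) hmono hlift _ (rho_π K a q) W

end Groth.Agent.AlgSpRlimLib
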